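import Mathlib
import Groth.Prelude.Def_ActBC
import Groth.Prelude.Def_Red

/-!
# Points and homomorphisms over a surjective closed subscheme
-/

set_option autoImplicit false
set_option backward.isDefEq.respectTransparency false

noncomputable section

universe u

open CategoryTheory CategoryTheory.Limits AlgebraicGeometry MonoidalCategory CartesianMonoidalCategory
open scoped MonObj Hom

namespace PowEtCentralLib

variable {S₀ S : Scheme.{u}} (j : S₀ ⟶ S)

/-- The restriction of an `S`-scheme, seen over `S`. -/
abbrev res (X : Over S) : Over S := (Over.map j).obj (Red.bc j X)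

/-- The inclusion of the restriction. -/
abbrev inc (X : Over S) : res j X ⟶ X := (Over.mapPullbackAdj j).counit.app X

theorem inc_left (X : Over S) : (inc j X).left = pullback.fst X.hom j := by
  simp [inc, Over.mapPullbackAdj]

instance [IsClosedImmersion j] (X : Over S) : IsClosedImmersion (inc j X).left := by
  rw [inc_left]; infer_instance

instance [Surjective j] (X : Over S) : Surjective (inc j X).left := by
  rw [inc_left]; infer_instance

/-- Restriction of morphisms. -/
abbrev resMap {X Y : Over S} (k : X ⟶ Y) : res j X ⟶ res j Y :=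
  (Over.map j).map ((Over.pullback j).map k)

theorem resMap_inc {X Y : Over S} (k : X ⟶ Y) : resMap j k ≫ inc j Y = inc j X ≫ k :=
  (Over.mapPullbackAdj j).counit.naturality k

/-- A scheme on which the restriction is trivial passes this to all schemes over it. -/
theorem isIso_inc_of_hom [IsClosedImmersion j] {X Y : Over S} (k : Y ⟶ X) [IsIso (inc j X).left] :
    IsIso (inc j Y).left := by
  rw [inc_left] at *
  have sq : IsPullback (pullback.fst Y.hom j)
      (pullback.map Y.hom j X.hom j k.left (𝟙 _) (𝟙 _) (by simp) (by simp)) k.left (pullback.fst X.hom j) := by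
    refine IsPullback.of_bot ?_ (by simp) (IsPullback.of_hasPullback X.hom j)
    simp only [pullback.lift_snd, Category.comp_id, Over.w]
    exact IsPullback.of_hasPullback Y.hom j
  exact sq.isIso_fst_of_isIso

variable {H G : Over S} [GrpObj H] [GrpObj G]

/-- The adjunction bijection as an isomorphism of groups. -/
def adjEquiv (X₀ : Over S₀) : ((Over.map j).obj X₀ ⟶ G) ≃* (X₀ ⟶ Red.bc j G) :=
  { (Over.mapPullbackAdj j).homEquiv X₀ G with map_mul' := AlgGrp.Action.homEquiv_mul j }

variable (u₀ : Red.bc j H ⟶ Red.bc j G)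

/-- The effect of a morphism given over the subscheme on restrictions of points. -/
def tau {X : Over S} (x : X ⟶ H) : res j X ⟶ G :=
  (adjEquiv j (Red.bc j X)).symm ((Over.pullback j).map x ≫ u₀)

theorem adjEquiv_inc {X : Over S} (x : X ⟶ H) :
    adjEquiv j (Red.bc j X) (inc j X ≫ x) = (Over.pullback j).map x := by
  show (Over.mapPullbackAdj j).homEquiv _ _ _ = _
  rw [Adjunction.homEquiv_naturality_right, Adjunction.homEquiv_unit]
  rw [Category.assoc]
  exact (Adjunction.right_triangle_components_assoc (Over.mapPullbackAdj j) X _)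

theorem tau_mul [IsMonHom u₀] {X : Over S} (x y : X ⟶ H) :
    tau j u₀ (x * y) = tau j u₀ x * tau j u₀ y := by
  unfold tau
  rw [← map_mul]
  congr 1
  rw [← MonObj.mul_comp, ← adjEquiv_inc, ← adjEquiv_inc, ← adjEquiv_inc, MonObj.comp_mul, map_mul]

theorem tau_one [IsMonHom u₀] {X : Over S} : tau j u₀ (1 : X ⟶ H) = 1 := by
  have h := tau_mul j u₀ (1 : X ⟶ H) 1
  rw [_root_.one_mul] at h
  exact left_eq_mul.mp h

theorem tau_pow [IsMonHom u₀] {X : Over S} (x : X ⟶ H) (n : ℕ) :
    tau j u₀ (x ^ n) = tau j u₀ x ^ n := by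
  induction n with
  | zero => rw [pow_zero, pow_zero, tau_one]
  | succ n ih => rw [pow_succ, pow_succ, tau_mul, ih]

omit [GrpObj H] in
theorem tau_comp {X Y : Over S} (k : Y ⟶ X) (x : X ⟶ H) :
    tau j u₀ (k ≫ x) = resMap j k ≫ tau j u₀ x := by
  apply (adjEquiv j (Red.bc j Y)).injective
  unfold tau
  rw [MulEquiv.apply_symm_apply, Functor.map_comp, Category.assoc]
  show _ = (Over.mapPullbackAdj j).homEquiv _ _ _
  rw [Adjunction.homEquiv_naturality_left]
  congr 1
  exact (MulEquiv.apply_symm_apply (adjEquiv j (Red.bc j X)) _).symm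

omit [GrpObj H] in
theorem tau_eq_iff {X : Over S} (x : X ⟶ H) (y : X ⟶ G) :
    inc j X ≫ y = tau j u₀ x ↔ (Over.pullback j).map y = (Over.pullback j).map x ≫ u₀ := by
  rw [← (adjEquiv j (Red.bc j X)).injective.eq_iff, tau, MulEquiv.apply_symm_apply, adjEquiv_inc]

/-- Centrality of `u₀` at restricted points. -/
theorem tau_central
    (hc₀ : ∀ (X₀ : Over S₀) (x : X₀ ⟶ Red.bc j H) (g : X₀ ⟶ Red.bc j G), (x ≫ u₀) * g = g * (x ≫ u₀))
    {X : Over S} (x : X ⟶ H) (g : res j X ⟶ G) : tau j u₀ x * g = g * tau j u₀ x := by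
  apply (adjEquiv j (Red.bc j X)).injective
  rw [map_mul, map_mul, tau, MulEquiv.apply_symm_apply]
  exact hc₀ _ _ _

end PowEtCentralLib
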