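import Mathlib
import Groth.Prelude.Def_AutFam
import Groth.Agent.PowEtCentralLib.Transport
import Groth.Agent.MultHomLib.Desc

/-!
# Families of homomorphisms and homomorphisms after base change
-/

set_option autoImplicit false
set_option backward.isDefEq.respectTransparency false

noncomputable section

universe u

open CategoryTheory CategoryTheory.Limits AlgebraicGeometry MonoidalCategory CartesianMonoidalCategory
open scoped MonObj Hom

namespace PowEtCentralLib

variable {S : Scheme.{u}} {G H : Over S} [GrpObj G] [GrpObj H]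

/-- A family over `T` as a morphism over `S` out of the base change. -/
def flatten (T : Over S) (φ : G ⊗ T ⟶ H) : (Over.map T.hom).obj (Red.bc T.hom G) ⟶ H :=
  Over.homMk φ.left (by
    rw [Over.w φ]
    exact pullback.condition)

/-- A family over `T` as a morphism of the base changes. -/
def toHom (T : Over S) (φ : G ⊗ T ⟶ H) : Red.bc T.hom G ⟶ Red.bc T.hom H :=
  adjEquiv (G := H) T.hom (Red.bc T.hom G) (flatten T φ)

omit [GrpObj G] in
theorem toHom_left_fst (T : Over S) (φ : G ⊗ T ⟶ H) :
    (toHom T φ).left ≫ pullback.fst H.hom T.hom = φ.left := by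
  have h1 := congrArg Over.Hom.left
    (((Over.mapPullbackAdj T.hom).homEquiv _ H).symm_apply_apply (flatten T φ))
  rw [Adjunction.homEquiv_counit] at h1
  exact h1

/-- A homomorphism of base changes as a family. -/
def fromHom (T : Over S) (ψ : Red.bc T.hom G ⟶ Red.bc T.hom H) : G ⊗ T ⟶ H :=
  Over.homMk (ψ.left ≫ pullback.fst H.hom T.hom) (by
    show (ψ.left ≫ pullback.fst H.hom T.hom) ≫ H.hom = pullback.fst G.hom T.hom ≫ G.hom
    rw [Category.assoc, pullback.condition, pullback.condition, ← Category.assoc]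
    congr 1
    exact Over.w ψ)

theorem toHom_fromHom (T : Over S) (ψ : Red.bc T.hom G ⟶ Red.bc T.hom H) :
    toHom T (fromHom T ψ) = ψ := by
  ext1
  apply pullback.hom_ext
  · exact toHom_left_fst T (fromHom T ψ)
  · exact (Over.w (toHom T (fromHom T ψ))).trans (Over.w ψ).symm

omit [GrpObj G] [GrpObj H] in
theorem lift_left {X T : Over S} (g : X ⟶ G) (t : X ⟶ T) :
    (lift g t).left = pullback.lift g.left t.left ((Over.w g).trans (Over.w t).symm) := by
  apply pullback.hom_ext
  · rw [pullback.lift_fst]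
    exact congrArg Over.Hom.left (lift_fst g t)
  · rw [pullback.lift_snd]
    exact congrArg Over.Hom.left (lift_snd g t)

theorem comp_toHom (T : Over S) (φ : G ⊗ T ⟶ H) (X : Over T.left)
    (g : (Over.map T.hom).obj X ⟶ G) :
    adjEquiv (G := G) T.hom X g ≫ toHom T φ =
      adjEquiv (G := H) T.hom X (lift g (Over.homMk X.hom rfl : (Over.map T.hom).obj X ⟶ T) ≫ φ) := by
  have h1 := congrArg Over.Hom.left (((Over.mapPullbackAdj T.hom).homEquiv X G).symm_apply_apply g)
  rw [Adjunction.homEquiv_counit] at h1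
  show (adjEquiv (G := G) T.hom X g) ≫ (Over.mapPullbackAdj T.hom).homEquiv _ _ _ = _
  rw [← Adjunction.homEquiv_naturality_left]
  refine congrArg ((Over.mapPullbackAdj T.hom).homEquiv X H) ?_
  ext1
  show (adjEquiv (G := G) T.hom X g).left ≫ φ.left = (lift g _).left ≫ φ.left
  congr 1
  rw [lift_left]
  apply pullback.hom_ext
  · rw [pullback.lift_fst]
    exact h1
  · rw [pullback.lift_snd]
    exact Over.w (adjEquiv (G := G) T.hom X g)

theorem isMonHom_toHom {T : Over S} {φ : G ⊗ T ⟶ H} (hφ : AutFam.IsHomFamily G H φ) :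
    IsMonHom (toHom T φ) := by
  have hmul : ∀ (X : Over T.left) (x y : X ⟶ Red.bc T.hom G),
      (x * y) ≫ toHom T φ = (x ≫ toHom T φ) * (y ≫ toHom T φ) := by
    intro X x y
    obtain ⟨g₁, rfl⟩ := (adjEquiv (G := G) T.hom X).surjective x
    obtain ⟨g₂, rfl⟩ := (adjEquiv (G := G) T.hom X).surjective y
    rw [← map_mul, comp_toHom, comp_toHom, comp_toHom, ← map_mul, hφ]
  refine ⟨?_, ?_⟩
  · have h1 := hmul (𝟙_ _) 1 1
    rw [_root_.one_mul] at h1
    have h2 : (1 : 𝟙_ (Over T.left) ⟶ Red.bc T.hom G) ≫ toHom T φ = 1 := left_eq_mul.mp h1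
    rw [MonObj.one_eq_one, MonObj.one_eq_one]
    exact h2
  · rw [MonObj.mul_eq_mul, hmul, MonObj.mul_eq_mul, MonObj.comp_mul, tensorHom_fst, tensorHom_snd]

theorem isHomFamily_fromHom (T : Over S) (ψ : Red.bc T.hom G ⟶ Red.bc T.hom H) [IsMonHom ψ] :
    AutFam.IsHomFamily G H (fromHom T ψ) := by
  intro X g₁ g₂ t
  let X' : Over T.left := Over.mk t.left
  let k : (Over.map T.hom).obj X' ⟶ X := Over.homMk (𝟙 X.left) (by
    show 𝟙 X.left ≫ X.hom = t.left ≫ T.hom
    rw [Category.id_comp, Over.w t])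
  haveI : IsIso k := by
    haveI : IsIso ((Over.forget S).map k) := inferInstanceAs (IsIso (𝟙 X.left))
    exact isIso_of_reflects_iso _ (Over.forget S)
  rw [← cancel_epi k, MonObj.comp_mul, ← Category.assoc, ← Category.assoc, ← Category.assoc, comp_lift,
    comp_lift, comp_lift, MonObj.comp_mul]
  have ht : k ≫ t = (Over.homMk X'.hom rfl : (Over.map T.hom).obj X' ⟶ T) := by
    ext1
    exact Category.id_comp t.left
  rw [ht]
  apply (adjEquiv (G := H) T.hom X').injective
  rw [map_mul, ← comp_toHom, ← comp_toHom, ← comp_toHom, toHom_fromHom, map_mul, MonObj.mul_comp]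

omit [GrpObj G] in
/-- Re-parametrisation is base change. -/
theorem isPullback_toHom {T T' : Over S} (a : T' ⟶ T) (φ : G ⊗ T ⟶ H) :
    IsPullback (pullback.map G.hom T'.hom G.hom T.hom (𝟙 _) a.left (𝟙 _) (by simp) (by simp))
      (toHom T' ((G ◁ a) ≫ φ)).left (toHom T φ).left
      (pullback.map H.hom T'.hom H.hom T.hom (𝟙 _) a.left (𝟙 _) (by simp) (by simp)) := by
  have hH : IsPullback (pullback.map H.hom T'.hom H.hom T.hom (𝟙 _) a.left (𝟙 _) (by simp) (by simp))
      (pullback.snd H.hom T'.hom) (pullback.snd H.hom T.hom) a.left := by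
    refine IsPullback.of_right ?_ (pullback.lift_snd _ _ _) (IsPullback.of_hasPullback H.hom T.hom)
    simp only [pullback.lift_fst, Category.comp_id, Over.w a]
    exact IsPullback.of_hasPullback H.hom T'.hom
  have hG : IsPullback (pullback.map G.hom T'.hom G.hom T.hom (𝟙 _) a.left (𝟙 _) (by simp) (by simp))
      (pullback.snd G.hom T'.hom) (pullback.snd G.hom T.hom) a.left := by
    refine IsPullback.of_right ?_ (pullback.lift_snd _ _ _) (IsPullback.of_hasPullback G.hom T.hom)
    simp only [pullback.lift_fst, Category.comp_id, Over.w a]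
    exact IsPullback.of_hasPullback G.hom T'.hom
  rw [show pullback.snd G.hom T'.hom = (toHom T' ((G ◁ a) ≫ φ)).left ≫ pullback.snd H.hom T'.hom from
      (Over.w (toHom T' ((G ◁ a) ≫ φ))).symm,
    show pullback.snd G.hom T.hom = (toHom T φ).left ≫ pullback.snd H.hom T.hom from
      (Over.w (toHom T φ)).symm] at hG
  refine IsPullback.of_bot hG ?_ hH
  apply pullback.hom_ext
  · rw [Category.assoc, Category.assoc, pullback.lift_fst]
    refine ((congrArg (_ ≫ ·) (toHom_left_fst T φ)).trans ?_).trans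
      (((congrArg (_ ≫ ·) (Category.comp_id _)).trans (toHom_left_fst T' ((G ◁ a) ≫ φ))).symm)
    show pullback.map G.hom T'.hom G.hom T.hom (𝟙 _) a.left (𝟙 _) _ _ ≫ φ.left = (G ◁ a).left ≫ φ.left
    congr 1
  · rw [Category.assoc, Category.assoc, pullback.lift_snd]
    have h1 := Over.w (toHom T φ)
    have h2 := Over.w (toHom T' ((G ◁ a) ≫ φ))
    simp only [Over.pullback_obj_hom] at h1 h2
    rw [h1, pullback.lift_snd, ← Category.assoc, h2]

omit [GrpObj G] in
theorem isIso_toHom_of_isIso_comp {T T' : Over S} (a : T' ⟶ T) (φ : G ⊗ T ⟶ H)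
    [IsIso (toHom T φ).left] : IsIso (toHom T' ((G ◁ a) ≫ φ)).left :=
  (isPullback_toHom a φ).isIso_snd_of_isIso

omit [GrpObj G] in
theorem isIso_toHom_of_cover {T T' : Over S} (a : T' ⟶ T) [Flat a.left] [Surjective a.left]
    [QuasiCompact a.left] (φ : G ⊗ T ⟶ H) [IsIso (toHom T' ((G ◁ a) ≫ φ)).left] :
    IsIso (toHom T φ).left := by
  have sq := (isPullback_toHom a φ).flip
  have hsq : IsPullback (pullback.map H.hom T'.hom H.hom T.hom (𝟙 _) a.left (𝟙 _) (by simp) (by simp))
      (pullback.snd H.hom T'.hom) (pullback.snd H.hom T.hom) a.left := by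
    refine IsPullback.of_right ?_ (pullback.lift_snd _ _ _) (IsPullback.of_hasPullback H.hom T.hom)
    simp only [pullback.lift_fst, Category.comp_id, Over.w a]
    exact IsPullback.of_hasPullback H.hom T'.hom
  let m := pullback.map H.hom T'.hom H.hom T.hom (𝟙 _) a.left (𝟙 _) (by simp) (by simp)
  haveI : Flat m := MorphismProperty.of_isPullback hsq.flip ‹Flat a.left›
  haveI : Surjective m := MorphismProperty.of_isPullback hsq.flip ‹Surjective a.left›
  haveI : QuasiCompact m := MorphismProperty.of_isPullback hsq.flip ‹QuasiCompact a.left›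
  exact MorphismProperty.of_isPullback_of_descendsAlong (P := MorphismProperty.isomorphisms Scheme.{u})
    (Q := @Surjective ⊓ @Flat ⊓ @QuasiCompact) sq ⟨⟨‹_›, ‹_›⟩, ‹_›⟩
    (inferInstanceAs (IsIso (toHom T' ((G ◁ a) ≫ φ)).left))

end PowEtCentralLib
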