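import Mathlib
import Groth.Agent.FFDescLib.EtaleGraph

/-!
# Points of étale schemes along surjective closed immersions
-/

set_option autoImplicit false

universe u

open CategoryTheory CategoryTheory.Limits AlgebraicGeometry

namespace PowEtCentralLib

variable {X₀ X P S : Scheme.{u}}

/-- Two maps into an unramified scheme agree if they agree after a surjective map. -/
theorem eq_of_surjective_comp (i : X₀ ⟶ X) [Surjective i] (π : P ⟶ S) [FormallyUnramified π]
    [LocallyOfFiniteType π] (g₁ g₂ : X ⟶ P) (h : g₁ ≫ π = g₂ ≫ π) (h' : i ≫ g₁ = i ≫ g₂) : g₁ = g₂ := by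
  let δ : X ⟶ pullback π π := pullback.lift g₁ g₂ h
  let e : pullback (pullback.diagonal π) δ ⟶ X := pullback.snd _ _
  haveI : Surjective e := by
    let l : X₀ ⟶ pullback (pullback.diagonal π) δ := pullback.lift (i ≫ g₁) i (by
      apply pullback.hom_ext <;>
        simp only [δ, Category.assoc, pullback.diagonal_fst, pullback.diagonal_snd, pullback.lift_fst,
          pullback.lift_snd, Category.comp_id, h'])
    haveI : Surjective (l ≫ e) := by
      rw [show l ≫ e = i from pullback.lift_snd _ _ _]
      assumption
    exact Surjective.of_comp l e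
  haveI : IsIso e := by
    haveI : IsOpenImmersion e := inferInstance
    haveI : Epi e.base := (TopCat.epi_iff_surjective _).mpr e.surjective
    exact IsOpenImmersion.isIso e
  have hc : e ≫ g₁ = e ≫ g₂ := by
    have hh := pullback.condition (f := pullback.diagonal π) (g := δ)
    have h1 := congrArg (· ≫ pullback.fst π π) hh
    have h2 := congrArg (· ≫ pullback.snd π π) hh
    simp only [Category.assoc, pullback.diagonal_fst, pullback.diagonal_snd, δ, pullback.lift_fst,
      pullback.lift_snd, Category.comp_id] at h1 h2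
    exact h1.symm.trans h2
  exact (cancel_epi e).mp hc

theorem universallyInjective_of_comp_surjective {Y : Scheme.{u}} (g : Y ⟶ P) (f : P ⟶ X) [Surjective g]
    [UniversallyInjective (g ≫ f)] : UniversallyInjective f := by
  haveI : Surjective (pullback.diagonal (g ≫ f)) := (UniversallyInjective.iff_diagonal _).mp ‹_›
  rw [UniversallyInjective.iff_diagonal]
  haveI : Surjective (pullback.map (g ≫ f) (g ≫ f) f f g g (𝟙 X) (by simp) (by simp)) :=
    MorphismProperty.pullbackMap (P := @Surjective) ‹Surjective g› ‹Surjective g› rfl rfl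
  haveI : Surjective (g ≫ pullback.diagonal f) := by
    rw [show g ≫ pullback.diagonal f =
      pullback.diagonal (g ≫ f) ≫ pullback.map (g ≫ f) (g ≫ f) f f g g (𝟙 X) (by simp) (by simp) by
      apply pullback.hom_ext
      · simp only [Category.assoc, pullback.diagonal_fst, pullback.lift_fst, Category.comp_id,
          pullback.diagonal_fst_assoc]
      · simp only [Category.assoc, pullback.diagonal_snd, pullback.lift_snd, Category.comp_id,
          pullback.diagonal_snd_assoc]]
    infer_instance
  exact Surjective.of_comp g _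

/-- Maps into an étale scheme extend along surjective closed immersions. -/
theorem exists_extend (i : X₀ ⟶ X) [IsClosedImmersion i] [Surjective i] (p : X ⟶ S) (π : P ⟶ S) [Etale π]
    (g₀ : X₀ ⟶ P) (h : g₀ ≫ π = i ≫ p) : ∃ g : X ⟶ P, g ≫ π = p ∧ i ≫ g = g₀ := by
  let Q := pullback π p
  let Q₀ := pullback (pullback.snd π p) i
  let σ₀ : X₀ ⟶ Q₀ := pullback.lift (pullback.lift g₀ i h) (𝟙 X₀)
    ((pullback.lift_snd _ _ _).trans (Category.id_comp i).symm)
  haveI : IsOpenImmersion σ₀ := by
    exact FFDescLib.isOpenImmersion_of_section (pullback.snd (pullback.snd π p) i) σ₀ (pullback.lift_snd _ _ _)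
  let c : Q₀ ⟶ Q := pullback.fst (pullback.snd π p) i
  haveI : IsClosedImmersion c := inferInstance
  haveI : Surjective c := inferInstance
  have hc : Topology.IsClosedEmbedding c.base := c.isClosedEmbedding
  have ho : IsOpen (c.base '' Set.range σ₀.base) := by
    have hhom : IsHomeomorph c.base :=
      isHomeomorph_iff_isEmbedding_surjective.mpr ⟨hc.isEmbedding, c.surjective⟩
    exact hhom.isOpenMap _ σ₀.opensRange.isOpen
  let O : Q.Opens := ⟨_, ho⟩
  have hr : Set.range (σ₀ ≫ c).base ⊆ Set.range O.ι.base := by
    rw [Scheme.Opens.range_ι]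
    rintro _ ⟨x, rfl⟩
    exact ⟨σ₀.base x, ⟨x, rfl⟩, (Scheme.Hom.comp_apply _ _ _).symm⟩
  let l : X₀ ⟶ O := IsOpenImmersion.lift O.ι (σ₀ ≫ c) hr
  have hl : l ≫ O.ι = σ₀ ≫ c := IsOpenImmersion.lift_fac _ _ _
  haveI : Surjective l := ⟨fun z => by
    obtain ⟨_, ⟨x, rfl⟩, hx⟩ := z.2
    refine ⟨x, Subtype.ext ?_⟩
    have := congrArg (fun m => m.base x) hl
    exact this.trans hx⟩
  let f : (O : Scheme.{u}) ⟶ X := O.ι ≫ pullback.snd π p
  have hlf : l ≫ f = i := by
    simp only [f, ← Category.assoc, hl]
    rw [Category.assoc]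
    simp only [σ₀, c, pullback.lift_fst_assoc, pullback.lift_snd]
  haveI : UniversallyInjective (l ≫ f) := by rw [hlf]; infer_instance
  haveI : UniversallyInjective f := universallyInjective_of_comp_surjective l f
  haveI : Surjective (l ≫ f) := by rw [hlf]; infer_instance
  haveI : Surjective f := Surjective.of_comp l f
  haveI : IsIso f := FFDescLib.isIso_of_etale_univInjective_surjective f
  refine ⟨inv f ≫ O.ι ≫ pullback.fst π p, ?_, ?_⟩
  · rw [Category.assoc, Category.assoc, pullback.condition, IsIso.inv_comp_eq]
    simp [f]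
  · have hi : i ≫ inv f = l := by rw [IsIso.comp_inv_eq, hlf]
    rw [← Category.assoc, hi, ← Category.assoc, hl, Category.assoc]
    simp only [σ₀, c, pullback.lift_fst_assoc, pullback.lift_fst]

end PowEtCentralLib
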