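import Mathlib
import Groth.Agent.PowEtCentralLib.EtaleLift
import Groth.Agent.PowEtCentralLib.Transport
import Groth.Agent.HenselLib.EtaleLift
import Groth.Agent.HenselLib.Perm

/-!
# Étale schemes and groups along a surjective closed immersion
-/

set_option autoImplicit false
set_option backward.isDefEq.respectTransparency false

noncomputable section

universe u

open CategoryTheory CategoryTheory.Limits AlgebraicGeometry MonoidalCategory CartesianMonoidalCategory Opposite TensorProduct
open scoped MonObj Hom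

namespace PowEtCentralLib

variable {S₀ S : Scheme.{u}} (j : S₀ ⟶ S) [IsClosedImmersion j] [Surjective j]

/-- Points of an étale scheme are determined on the subscheme, and extend. -/
theorem map_bijective (X H : Over S) [Etale H.hom] :
    Function.Bijective (fun x : X ⟶ H => (Over.pullback j).map x) := by
  have hkey : ∀ x : X ⟶ H, (Over.pullback j).map x =
      (Over.mapPullbackAdj j).homEquiv _ _ (inc j X ≫ x) := fun x => by
    rw [Adjunction.homEquiv_naturality_right, Adjunction.homEquiv_unit, Category.assoc]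
    exact (Adjunction.right_triangle_components_assoc (Over.mapPullbackAdj j) X _).symm
  constructor
  · intro x x' h
    simp only [hkey, EmbeddingLike.apply_eq_iff_eq] at h
    ext1
    refine eq_of_surjective_comp (inc j X).left H.hom x.left x'.left ((Over.w x).trans (Over.w x').symm) ?_
    exact congrArg Over.Hom.left h
  · intro y
    obtain ⟨x₀, rfl⟩ := ((Over.mapPullbackAdj j).homEquiv (Red.bc j X) H).surjective y
    obtain ⟨g, hg, hg'⟩ := exists_extend (inc j X).left X.hom H.hom x₀.left
      ((Over.w x₀).trans (Over.w (inc j X)).symm)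
    refine ⟨Over.homMk g hg, ?_⟩
    simp only [hkey, EmbeddingLike.apply_eq_iff_eq]
    ext1
    exact hg'

/-- A homomorphism given over the subscheme extends uniquely to étale groups. -/
theorem existsUnique_hom (X H : Over S) [GrpObj X] [GrpObj H] [Etale H.hom]
    (f : Red.bc j X ⟶ Red.bc j H) [IsMonHom f] :
    ∃ g : X ⟶ H, IsMonHom g ∧ (Over.pullback j).map g = f := by
  obtain ⟨g, hg⟩ := (map_bijective j X H).2 f
  have hg' : (Over.pullback j).map g = f := hg
  refine ⟨g, ⟨(map_bijective j (𝟙_ _) H).1 ?_, (map_bijective j (X ⊗ X) H).1 ?_⟩, hg'⟩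
  · show (Over.pullback j).map (η[X] ≫ g) = (Over.pullback j).map η[H]
    rw [Functor.map_comp, hg', ← cancel_epi (Functor.LaxMonoidal.ε (Over.pullback j)), ← Category.assoc]
    exact IsMonHom.one_hom f
  · show (Over.pullback j).map (μ[X] ≫ g) = (Over.pullback j).map ((g ⊗ₘ g) ≫ μ[H])
    rw [Functor.map_comp, Functor.map_comp, hg', ← cancel_epi (Functor.LaxMonoidal.μ (Over.pullback j) X X),
      ← Category.assoc, ← Functor.LaxMonoidal.μ_natural_assoc, hg']
    exact IsMonHom.mul_hom f

/-- The group structure on an étale scheme from one on the subscheme. -/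
theorem exists_grpObj (H : Over S) [Etale H.hom] (H₀ : Over S₀) [GrpObj H₀] (e : Red.bc j H ≅ H₀) :
    ∃ _ : GrpObj H, IsMonHom e.hom := by
  let F : (Over S)ᵒᵖ ⥤ GrpCat.{u} :=
    { obj := fun X => GrpCat.of (Red.bc j X.unop ⟶ H₀)
      map := fun {X Y} k => GrpCat.ofHom
        { toFun := fun x => (Over.pullback j).map k.unop ≫ x
          map_one' := MonObj.comp_one _
          map_mul' := fun x y => MonObj.comp_mul _ _ _ }
      map_id := fun X => by
        refine GrpCat.hom_ext (MonoidHom.ext fun x => ?_)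
        show (Over.pullback j).map (𝟙 X.unop) ≫ x = x
        rw [CategoryTheory.Functor.map_id, Category.id_comp]
      map_comp := fun {X Y Z} k l => by
        refine GrpCat.hom_ext (MonoidHom.ext fun x => ?_)
        show (Over.pullback j).map (l.unop ≫ k.unop) ≫ x = _
        rw [Functor.map_comp, Category.assoc]
        rfl }
  let α : (F ⋙ forget GrpCat).RepresentableBy H :=
    { homEquiv := fun {X} => (Equiv.ofBijective _ (map_bijective j X H)).trans
        { toFun := fun x => x ≫ e.hom
          invFun := fun x => x ≫ e.inv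
          left_inv := fun x => by simp
          right_inv := fun x => by simp }
      homEquiv_comp := fun {X X'} f g => by
        show (Over.pullback j).map (f ≫ g) ≫ e.hom = _
        rw [Functor.map_comp, Category.assoc]
        rfl }
  letI : GrpObj H := GrpObj.ofRepresentableBy H F α
  have hmul : ∀ {X : Over S} (x y : X ⟶ H), (Over.pullback j).map (x * y) ≫ e.hom =
      ((Over.pullback j).map x ≫ e.hom) * ((Over.pullback j).map y ≫ e.hom) := by
    intro X x y
    rw [Hom.mul_def, Functor.map_comp, Category.assoc]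
    have h1 : (Over.pullback j).map μ[H] ≫ e.hom = ((Over.pullback j).map (fst H H) ≫ e.hom) *
        ((Over.pullback j).map (snd H H) ≫ e.hom) := by
      show α.homEquiv μ[H] = _
      exact Equiv.apply_symm_apply α.homEquiv _
    rw [h1, MonObj.comp_mul, ← Category.assoc, ← Category.assoc, ← Functor.map_comp, ← Functor.map_comp,
      lift_fst, lift_snd]
  refine ⟨inferInstance, ?_, ?_⟩
  · have h1 : (Over.pullback j).map η[H] ≫ e.hom = 1 := by
      show α.homEquiv η[H] = _
      exact Equiv.apply_symm_apply α.homEquiv _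
    show (Functor.LaxMonoidal.ε (Over.pullback j) ≫ (Over.pullback j).map η[H]) ≫ e.hom = η[H₀]
    rw [Category.assoc, h1, MonObj.comp_one]
    exact (MonObj.one_eq_one H₀).symm
  · show (Functor.LaxMonoidal.μ (Over.pullback j) H H ≫ (Over.pullback j).map μ[H]) ≫ e.hom =
      (e.hom ⊗ₘ e.hom) ≫ μ[H₀]
    rw [Category.assoc, MonObj.mul_eq_mul, hmul, MonObj.comp_mul, ← Category.assoc, ← Category.assoc,
      Functor.Monoidal.μ_fst, Functor.Monoidal.μ_snd, MonObj.mul_eq_mul, MonObj.comp_mul,
      tensorHom_fst, tensorHom_snd]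

/-- Finite étale schemes lift along locally nilpotent ideals. -/
theorem exists_scheme_lift {A : Type u} [CommRing A] (J : Ideal A) (hJ : ∀ x ∈ J, IsNilpotent x)
    (H₀ : Over (Spec (CommRingCat.of (A ⧸ J)))) [IsFinite H₀.hom] [Etale H₀.hom] :
    ∃ (H : Over (Spec (CommRingCat.of A))), IsFinite H.hom ∧ Etale H.hom ∧
      Nonempty (Red.bc (Spec.map (CommRingCat.ofHom (Ideal.Quotient.mk J))) H ≅ H₀) := by
  haveI : IsAffine H₀.left := isAffine_of_isAffineHom H₀.hom
  obtain ⟨φ, hφ⟩ := Spec.map_surjective (H₀.left.isoSpec.inv ≫ H₀.hom)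
  let C : Type u := Γ(H₀.left, ⊤)
  letI : Algebra (A ⧸ J) C := φ.hom.toAlgebra
  letI : Algebra A C := ((algebraMap (A ⧸ J) C).comp (Ideal.Quotient.mk J)).toAlgebra
  haveI : IsScalarTower A (A ⧸ J) C := IsScalarTower.of_algebraMap_eq fun _ => rfl
  haveI hs : Etale (Spec.map φ) := by rw [hφ]; infer_instance
  haveI hf : IsFinite (Spec.map φ) := by rw [hφ]; infer_instance
  haveI : Algebra.Etale (A ⧸ J) C :=
    RingHom.etale_algebraMap.mp ((HasRingHomProperty.Spec_iff (P := @Etale)).mp hs)
  haveI : Module.Finite (A ⧸ J) C :=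
    RingHom.finite_algebraMap.mp ((IsFinite.SpecMap_iff φ).mp hf)
  haveI : HenselianRing A J := HenselLib.henselianRing_of_forall_isNilpotent hJ
  obtain ⟨B, _, _, hBf, hBe, ⟨e⟩⟩ := HenselLib.exists_finite_etale_lift J C
  let H : Over (Spec (CommRingCat.of A)) := Over.mk (Spec.map (CommRingCat.ofHom (algebraMap A B)))
  refine ⟨H, (IsFinite.SpecMap_iff _).2 (RingHom.finite_algebraMap.2 hBf),
    (HasRingHomProperty.Spec_iff (P := @Etale)).2 (RingHom.etale_algebraMap.2 hBe), ⟨?_⟩⟩
  refine Over.isoMk ((pullbackSymmetry _ _) ≪≫ pullbackSpecIso A (A ⧸ J) B ≪≫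
    Scheme.Spec.mapIso (RingEquiv.toCommRingCatIso e.toRingEquiv.symm).op ≪≫ H₀.left.isoSpec.symm) ?_
  dsimp only [Iso.trans_hom, Functor.id_obj, Over.mk_left]
  simp only [Category.assoc]
  rw [show H₀.left.isoSpec.symm.hom ≫ H₀.hom = Spec.map φ from hφ.symm]
  show (pullbackSymmetry _ _).hom ≫ (pullbackSpecIso A (A ⧸ J) B).hom ≫ Spec.map _ ≫ Spec.map φ = _
  rw [← Spec.map_comp]
  have h2 : φ ≫ (RingEquiv.toCommRingCatIso e.toRingEquiv.symm).hom =
      CommRingCat.ofHom (algebraMap (A ⧸ J) ((A ⧸ J) ⊗[A] B)) := by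
    ext r
    exact e.symm.commutes r
  erw [h2]
  rw [show (pullbackSpecIso A (A ⧸ J) B).hom ≫ Spec.map (CommRingCat.ofHom
      (algebraMap (A ⧸ J) ((A ⧸ J) ⊗[A] B))) = pullback.fst _ _ from pullbackSpecIso_hom_fst A (A ⧸ J) B]
  exact pullbackSymmetry_hom_comp_fst _ _

end PowEtCentralLib
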