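import Mathlib
import Groth.Agent.CohenLib.FSField

/-!
# Finite and smooth is finite étale
-/

set_option autoImplicit false

universe u

open CategoryTheory AlgebraicGeometry TensorProduct

namespace PowEtCentralLib

theorem formallyUnramified_of_finite_smooth_algClosed (K T : Type u) [Field K] [IsAlgClosed K]
    [CommRing T] [Algebra K T] [Algebra.FormallySmooth K T] [Module.Finite K T] :
    Algebra.FormallyUnramified K T := by
  haveI : IsArtinianRing T := .of_finite K T
  haveI : _root_.IsReduced T := CohenLib.isReduced_of_artinian_formallySmooth K T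
  haveI : ∀ m : MaximalSpectrum T, Algebra.FormallyEtale K (T ⧸ m.asIdeal) := fun m => by
    letI := Ideal.Quotient.field m.asIdeal
    rw [Algebra.FormallyEtale.iff_isSeparable]
    infer_instance
  haveI : Algebra.FormallyEtale K T :=
    .of_equiv ((IsArtinianRing.equivPi T).restrictScalars K).symm
  infer_instance

theorem formallyUnramified_of_finite_smooth (A B : Type u) [CommRing A] [CommRing B] [Algebra A B]
    [Algebra.FormallySmooth A B] [Module.Finite A B] : Algebra.FormallyUnramified A B := by
  haveI : Module.Finite B Ω[B⁄A] := inferInstance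
  haveI : Module.Finite A Ω[B⁄A] := Module.Finite.trans B _
  refine ⟨(Module.support_eq_empty_iff (R := A)).mp
    (Set.eq_empty_iff_forall_notMem.mpr fun p hp => ?_)⟩
  letI K := p.asIdeal.ResidueField
  let L := AlgebraicClosure p.asIdeal.ResidueField
  haveI : Algebra.FormallyUnramified L (L ⊗[A] B) := formallyUnramified_of_finite_smooth_algClosed L _
  letI : Algebra B (L ⊗[A] B) := Algebra.TensorProduct.rightAlgebra
  have h1 : Subsingleton (L ⊗[A] Ω[B⁄A]) :=
    (KaehlerDifferential.tensorKaehlerEquivBase A L B (L ⊗[A] B)).toEquiv.subsingleton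
  have h2 : Subsingleton (L ⊗[p.asIdeal.ResidueField] (p.asIdeal.ResidueField ⊗[A] Ω[B⁄A])) :=
    (TensorProduct.AlgebraTensorModule.cancelBaseChange A p.asIdeal.ResidueField L L
      Ω[B⁄A]).toEquiv.subsingleton
  have h3 : Subsingleton (p.asIdeal.ResidueField ⊗[A] Ω[B⁄A]) :=
    Module.FaithfullyFlat.lTensor_reflects_triviality p.asIdeal.ResidueField L _
  rw [Module.mem_support_iff_nontrivial_residueField_tensorProduct] at hp
  exact not_subsingleton_iff_nontrivial.mpr hp h3

/-- A finite smooth morphism is étale. -/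
theorem etale_of_isFinite_smooth {X Y : Scheme.{u}} (f : X ⟶ Y) [IsFinite f] [Smooth f] : Etale f := by
  wlog hY : ∃ A, Y = Spec A
  · rw [IsZariskiLocalAtTarget.iff_of_openCover (P := @Etale) Y.affineCover]
    intro i
    haveI h1 : IsFinite (Scheme.Cover.pullbackHom Y.affineCover f i) :=
      inferInstanceAs (IsFinite (Limits.pullback.snd f (Y.affineCover.f i)))
    haveI h2 : Smooth (Scheme.Cover.pullbackHom Y.affineCover f i) :=
      inferInstanceAs (Smooth (Limits.pullback.snd f (Y.affineCover.f i)))
    exact this _ ⟨_, rfl⟩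
  obtain ⟨A, rfl⟩ := hY
  haveI : IsAffine X := isAffine_of_isAffineHom f
  obtain ⟨φ, hφ⟩ := Spec.map_surjective (X.isoSpec.inv ≫ f)
  have e : f = X.isoSpec.hom ≫ Spec.map φ := by rw [hφ, Iso.hom_inv_id_assoc]
  haveI hs : Smooth (Spec.map φ) := by rw [hφ]; infer_instance
  haveI hf : IsFinite (Spec.map φ) := by rw [hφ]; infer_instance
  algebraize [φ.hom]
  haveI : Algebra.Smooth A Γ(X, ⊤) :=
    RingHom.smooth_algebraMap.mp ((HasRingHomProperty.Spec_iff (P := @Smooth)).mp hs)
  haveI : Module.Finite A Γ(X, ⊤) :=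
    RingHom.finite_algebraMap.mp ((IsFinite.SpecMap_iff φ).mp hf)
  haveI : Algebra.FormallyUnramified A Γ(X, ⊤) := formallyUnramified_of_finite_smooth A Γ(X, ⊤)
  haveI : Algebra.FormallyEtale A Γ(X, ⊤) := ⟨inferInstance, inferInstance⟩
  haveI : Algebra.Etale A Γ(X, ⊤) := ⟨inferInstance, inferInstance⟩
  haveI : Etale (Spec.map φ) :=
    (HasRingHomProperty.Spec_iff (P := @Etale)).mpr (RingHom.etale_algebraMap.mpr inferInstance)
  rw [e]
  infer_instance

end PowEtCentralLib
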