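import Mathlib
import Groth.Agent.PowEtCentralLib.Family
import Groth.Agent.PowEtCentralLib.NilEquiv
import Groth.Agent.PowEtCentralLib.SmoothFinite
import Groth.Agent.MultHomLib.FinGlobal
import Groth.Agent.DescHomLib.MultBC
import Groth.Agent.RedCharZeroLib.TorusSplit
import Groth.Agent.EqNhdLib.Main
import Groth.Agent.RichLib.FibreCrit
import Groth.Agent.S5275
import Groth.Agent.RepDescLib.Hom

/-!
# A finite étale lift of a group of multiplicative type is of multiplicative type
-/

set_option autoImplicit false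
set_option backward.isDefEq.respectTransparency false

noncomputable section

universe u

open CategoryTheory CategoryTheory.Limits AlgebraicGeometry MonoidalCategory CartesianMonoidalCategory
open scoped MonObj Hom

namespace PowEtCentralLib

theorem isMonHom_eqToHom_bc {S S' : Scheme.{u}} {φ ψ : S' ⟶ S} (e : φ = ψ) (C : Over S) [GrpObj C] :
    IsMonHom (eqToHom (congrArg (fun χ => Red.bc χ C) e)) := by
  subst e
  exact inferInstanceAs (IsMonHom (𝟙 (Red.bc φ C)))

theorem exists_compact_image {X Y : Scheme.{u}} (f : X ⟶ Y) (hf : IsOpenMap f.base)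
    (hs : Function.Surjective f.base) (V : Y.Opens) (hV : IsAffineOpen V) :
    ∃ W : X.Opens, IsCompact (W : Set X) ∧ f.base '' (W : Set X) = (V : Set Y) := by
  choose U hU hxU hUle using fun x : {x : X // f.base x ∈ V} =>
    exists_isAffineOpen_mem_and_subset (X := X) (x := x.1) (U := f ⁻¹ᵁ V) x.2
  obtain ⟨t, ht⟩ := hV.isCompact.elim_finite_subcover (fun x => f.base '' (U x : Set X))
    (fun x => hf _ (U x).isOpen) (fun y hy => by
      obtain ⟨x, rfl⟩ := hs y
      exact Set.mem_iUnion.mpr ⟨⟨x, hy⟩, x, hxU ⟨x, hy⟩, rfl⟩)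
  refine ⟨⨆ x ∈ t, U x, ?_, ?_⟩
  · simp only [TopologicalSpace.Opens.coe_iSup]
    exact t.finite_toSet.isCompact_biUnion fun x _ => (hU x).isCompact
  · simp only [TopologicalSpace.Opens.coe_iSup, Set.image_iUnion]
    refine Set.Subset.antisymm (Set.iUnion₂_subset fun x _ => ?_) ht
    rintro _ ⟨z, hz, rfl⟩
    exact hUle x hz

/-- A criterion to be of multiplicative type. -/
theorem isMultTypeFT_of_local {S : Scheme.{u}} (H : Over S) [GrpObj H]
    (h : ∀ s : S, ∃ (T : Scheme.{u}) (t : T ⟶ S) (M : Type) (_ : AddCommGroup M), Flat t ∧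
      LocallyOfFinitePresentation t ∧ s ∈ Set.range t.base ∧ AddGroup.FG M ∧
        ∃ e : Red.bc t H ≅ Red.DS T M, IsMonHom e.hom) :
    SGA3x.IsMultTypeFT H := by
  choose T t M inst hflat hlfp hmem hfg e he using h
  let f : (∐ T) ⟶ S := Sigma.desc t
  haveI : Flat f := IsZariskiLocalAtSource.sigmaDesc hflat
  haveI : LocallyOfFinitePresentation f := IsZariskiLocalAtSource.sigmaDesc hlfp
  have hsurj : Function.Surjective f.base := fun s => by
    obtain ⟨z, hz⟩ := hmem s
    refine ⟨(Sigma.ι T s).base z, ?_⟩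
    rw [← Scheme.Hom.comp_apply, Sigma.ι_desc]
    exact hz
  refine ⟨∐ T, f, inferInstance, ⟨hsurj⟩, exists_compact_image f f.isOpenMap hsurj, fun x => ?_⟩
  obtain ⟨i, z, rfl⟩ := (sigmaOpenCover T).exists_eq x
  refine ⟨(Sigma.ι T i).opensRange, ⟨z, rfl⟩, M i, inst i, hfg i, ?_⟩
  let r : ((Sigma.ι T i).opensRange : Scheme.{u}) ⟶ T i := (Sigma.ι T i).isoOpensRange.inv
  have hr : r ≫ t i = (Sigma.ι T i).opensRange.ι ≫ f := by
    rw [← Scheme.Hom.isoOpensRange_inv_comp (Sigma.ι T i), Category.assoc, Sigma.ι_desc]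
  haveI := he i
  obtain ⟨e₁, he₁⟩ := RedCharZeroLib.exists_bc_comp r (t i) H
  obtain ⟨e₂, he₂⟩ := RedCharZeroLib.exists_DS_bc r (M i)
  haveI := he₁
  haveI := he₂
  haveI : IsMonHom ((Over.pullback r).mapIso (e i)).hom :=
    @Functor.map.instIsMonHom _ _ _ _ _ _ (Over.pullback r) _ _ _ _ _ (e i).hom _
  let k : Red.bc (r ≫ t i) H ≅ Red.DS _ (M i) := e₁ ≪≫ (Over.pullback r).mapIso (e i) ≪≫ e₂.symm
  haveI : IsMonHom k.hom := by dsimp only [k, Iso.trans_hom, Iso.symm_hom]; infer_instance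
  rw [← hr]
  exact ⟨Grp.mkIso k (IsMonHom.one_hom k.hom) (IsMonHom.mul_hom k.hom)⟩

theorem isFinite_DS (S : Scheme.{u}) (M : Type) [AddCommGroup M] [Finite M] : IsFinite (Red.DS S M).hom := by
  haveI : IsFinite (Red.diag (ULift.{u} ℤ) M).hom := by
    refine (IsFinite.SpecMap_iff _).2 (RingHom.finite_algebraMap.2 ?_)
    exact Module.Finite.of_basis (MonoidAlgebra.basis (Multiplicative M) (ULift.{u} ℤ))
  exact inferInstanceAs (IsFinite (pullback.snd (Red.diag (ULift.{u} ℤ) M).hom _))

theorem isMultTypeFT_DS (S : Scheme.{u}) (M : Type) [AddCommGroup M] (hM : AddGroup.FG M) :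
    SGA3x.IsMultTypeFT (Red.DS S M) := by
  refine isMultTypeFT_of_local _ fun s => ⟨S, 𝟙 S, M, inferInstance, inferInstance, inferInstance, ⟨s, rfl⟩, hM, ?_⟩
  obtain ⟨e, he⟩ := RedCharZeroLib.exists_DS_bc (𝟙 S) M
  haveI := he
  exact ⟨e.symm, (inferInstance : IsMonHom e.inv)⟩

/-- Flat of finite presentation, with étale reduction along a surjective closed immersion. -/
theorem etale_of_reduction {X₀ X Y : Scheme.{u}} (i : X₀ ⟶ Y) [IsClosedImmersion i] [Surjective i]
    (f : X ⟶ Y) [Flat f] [LocallyOfFinitePresentation f] [Etale (pullback.snd f i)] : Etale f := by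
  haveI : FormallyUnramified f := RichLib.FibreCrit.formallyUnramified_of_fibers f fun y => by
    let c := Y.fromSpecResidueField y
    haveI : IsIso (pullback.fst c i) := isIso_of_isClosedImmersion_of_surjective _
    let l : Spec (Y.residueField y) ⟶ X₀ := inv (pullback.fst c i) ≫ pullback.snd c i
    have hl : l ≫ i = c := by
      simp only [l, Category.assoc, ← pullback.condition, IsIso.inv_hom_id_assoc]
    let k : f.fiber y ⟶ pullback f i := pullback.lift (f.fiberι y) (f.fiberToSpecResidueField y ≫ l) (by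
      rw [Category.assoc, hl]
      exact f.fiber_fac y)
    have sq : IsPullback k (f.fiberToSpecResidueField y) (pullback.snd f i) l := by
      refine IsPullback.of_right ?_ (pullback.lift_snd _ _ _) (IsPullback.of_hasPullback f i)
      simp only [k, pullback.lift_fst, hl]
      exact IsPullback.of_hasPullback f c
    haveI : Etale (f.fiberToSpecResidueField y) := MorphismProperty.of_isPullback sq ‹_›
    infer_instance
  exact Etale.of_formallyUnramified_of_flat f

/-- Isomorphy of base changes along comparable maps. -/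
theorem isIso_of_comparable {X Y P P' Z Z' : Scheme.{u}} {f : X ⟶ Y} {p : P ⟶ X} {F : P ⟶ Z}
    {m : Z ⟶ Y} {p' : P' ⟶ X} {F' : P' ⟶ Z'} {n : Z' ⟶ Y} (sq : IsPullback p F f m)
    (sq' : IsPullback p' F' f n) (l : Z ⟶ Z') (hl : l ≫ n = m) [IsIso F'] : IsIso F := by
  let k : P ⟶ P' := sq'.lift p (F ≫ l) (by rw [Category.assoc, hl]; exact sq.w)
  have h : IsPullback k F F' l := by
    refine IsPullback.of_right ?_ (sq'.lift_snd _ _ _) sq'
    rw [sq'.lift_fst, hl]
    exact sq
  exact h.isIso_snd_of_isIso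

theorem isPullback_map_left {T' T : Scheme.{u}} (c : T' ⟶ T) {P Q : Over T} (u : P ⟶ Q) :
    IsPullback (pullback.fst P.hom c) ((Over.pullback c).map u).left u.left (pullback.fst Q.hom c) := by
  refine IsPullback.of_bot ?_ (pullback.lift_fst _ _ _).symm (IsPullback.of_hasPullback Q.hom c)
  rw [Over.w u, show ((Over.pullback c).map u).left ≫ pullback.snd Q.hom c = pullback.snd P.hom c from
    pullback.lift_snd _ _ _]
  exact IsPullback.of_hasPullback P.hom c

variable {S₀ : Scheme.{u}} {G H : Over S₀} [GrpObj G] [GrpObj H]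

omit [GrpObj G] in
theorem isIso_toHom_iff {T T' : Over S₀} (a : T' ⟶ T) (φ : G ⊗ T ⟶ H) :
    IsIso (toHom T' ((G ◁ a) ≫ φ)).left ↔ IsIso ((Over.pullback a.left).map (toHom T φ)).left := by
  constructor <;> intro h
  · refine isIso_of_comparable (isPullback_map_left a.left (toHom T φ)) (isPullback_toHom a φ)
      (pullback.lift (pullback.fst (Red.bc T.hom H).hom a.left ≫ pullback.fst H.hom T.hom)
        (pullback.snd (Red.bc T.hom H).hom a.left) ?_) ?_
    · rw [← Over.w a, ← Category.assoc, ← pullback.condition, Category.assoc, Category.assoc]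
      congr 1
      exact pullback.condition
    · apply pullback.hom_ext
      · simp only [Category.assoc, pullback.lift_fst, Category.comp_id]
      · simp only [Category.assoc, pullback.lift_snd, pullback.lift_snd_assoc]
        exact pullback.condition.symm
  · refine isIso_of_comparable (isPullback_toHom a φ) (isPullback_map_left a.left (toHom T φ))
      (pullback.lift (pullback.map H.hom T'.hom H.hom T.hom (𝟙 _) a.left (𝟙 _) (by simp) (by simp))
        (pullback.snd H.hom T'.hom) ?_) ?_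
    · exact pullback.lift_snd _ _ _
    · exact pullback.lift_fst _ _ _

/-- Near each point, a finite étale neighbourhood over which `H` is split. -/
theorem exists_split_piece [IsFinite H.hom] (hH : SGA3x.IsMultTypeFT H) (s : S₀) :
    ∃ (T : Over S₀) (M : Type) (_ : AddCommGroup M) (_ : Finite M),
      IsFinite T.hom ∧ Etale T.hom ∧ s ∈ Set.range T.hom.base ∧
        ∃ ψ : Red.bc T.hom (Red.DS S₀ M) ⟶ Red.bc T.hom H, IsMonHom ψ ∧ IsIso ψ := by
  obtain ⟨S', f, hflat, hsurj, -, hloc⟩ := id hH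
  obtain ⟨b, rfl⟩ := Surjective.surj (f := f) s
  obtain ⟨U, hbU, M, _, hM, ⟨e⟩⟩ := hloc b
  let F : Type u := S'.residueField b
  let c : Spec (CommRingCat.of F) ⟶ S' := S'.fromSpecResidueField b
  have hc : Set.range c.base ⊆ Set.range U.ι.base := by
    rintro _ ⟨z, rfl⟩
    rw [Scheme.Opens.range_ι]
    show (S'.fromSpecResidueField b).base z ∈ U
    rw [Scheme.fromSpecResidueField_apply]
    exact hbU
  let j : Spec (CommRingCat.of F) ⟶ U := IsOpenImmersion.lift U.ι c hc
  have hj : j ≫ U.ι ≫ f = c ≫ f := by rw [IsOpenImmersion.lift_fac_assoc]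
  let q : Spec (CommRingCat.of F) ⟶ S₀ := c ≫ f
  obtain ⟨w, hw⟩ := Groth.Agent.MultLift.exists_split_iso e j q hj
  haveI : Finite M := Groth.Agent.MultHom.finite_of_isFinite q w
  haveI := isFinite_DS S₀ M
  haveI := Groth.Agent.EqNhd.flat_DS S₀ M
  haveI : LocallyOfFinitePresentation (Red.DS S₀ M).hom :=
    Groth.Agent.MultEq.lfp_of_isMultTypeFT (isMultTypeFT_DS S₀ M hM)
  obtain ⟨A, υ, hrep, hfin, het⟩ := Groth.Agent.MultHom.exists_representsHom_finite (Red.DS S₀ M) H
    (isMultTypeFT_DS S₀ M hM) hH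
  haveI := hfin
  haveI := het
  haveI := isMonHom_toHom hrep.1
  obtain ⟨O, hOc, hO, hOiso⟩ := Groth.Agent.S5275.result (Red.bc A.hom (Red.DS S₀ M)) (Red.bc A.hom H)
    (Groth.Agent.DescHom.isMultTypeFT_bc (isMultTypeFT_DS S₀ M hM) A.hom) (Groth.Agent.DescHom.isMultTypeFT_bc hH A.hom)
    (toHom A υ)
  let T : Over S₀ := Over.mk (O.ι ≫ A.hom)
  let a : T ⟶ A := Over.homMk O.ι rfl
  haveI : IsClosedImmersion O.ι := IsClosedImmersion.of_isPreimmersion O.ι (by
    rw [Scheme.Opens.range_ι]; exact hOc)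
  haveI : IsIso (toHom T ((Red.DS S₀ M ◁ a) ≫ υ)).left := (isIso_toHom_iff a υ).2 hOiso
  haveI : IsIso (toHom T ((Red.DS S₀ M ◁ a) ≫ υ)) := by
    haveI : IsIso ((Over.forget _).map (toHom T ((Red.DS S₀ M ◁ a) ≫ υ))) := ‹_›
    exact isIso_of_reflects_iso _ (Over.forget _)
  refine ⟨T, M, inferInstance, inferInstance, inferInstanceAs (IsFinite (O.ι ≫ A.hom)),
    inferInstanceAs (Etale (O.ι ≫ A.hom)), ?_, toHom T ((Red.DS S₀ M ◁ a) ≫ υ),
    isMonHom_toHom (T := T) (φ := (Red.DS S₀ M ◁ a) ≫ υ) (RepDescLib.isHomFamily_comp _ H a hrep.1), inferInstance⟩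
  · -- the point of `A`
    obtain ⟨e₁, he₁⟩ := RedCharZeroLib.exists_bc_comp j (U.ι ≫ f) H
    obtain ⟨e₂, he₂⟩ := RedCharZeroLib.exists_DS_bc j M
    obtain ⟨e₃, he₃⟩ := RedCharZeroLib.exists_DS_bc q M
    haveI := he₁
    haveI := he₂
    haveI := he₃
    haveI : IsMonHom e.hom.hom.hom := inferInstance
    haveI : IsMonHom ((Over.pullback j).map e.hom.hom.hom) :=
      @Functor.map.instIsMonHom _ _ _ _ _ _ (Over.pullback j) _ _ _ _ _ e.hom.hom.hom _
    have hq : j ≫ U.ι ≫ f = q := hj
    haveI := isMonHom_eqToHom_bc hq H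
    let E : Red.bc j (Red.DS (U : Scheme.{u}) M) ≅ Red.bc j (Red.bc (U.ι ≫ f) H) :=
      (Over.pullback j).mapIso ((Grp.forget _).mapIso e.symm)
    haveI : IsMonHom E.hom :=
      @Functor.map.instIsMonHom _ _ _ _ _ _ (Over.pullback j) _ _ _ _ _ e.inv.hom.hom _
    let ψ : Red.bc q (Red.DS S₀ M) ≅ Red.bc q H := e₃.symm ≪≫ e₂ ≪≫ E ≪≫ e₁.symm ≪≫
      eqToIso (congrArg (fun χ => Red.bc χ H) hq)
    haveI : IsMonHom ψ.hom := by
      dsimp only [ψ, Iso.trans_hom, Iso.symm_hom, eqToIso.hom]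
      infer_instance
    let Q : Over S₀ := Over.mk q
    obtain ⟨aQ, haQ, -⟩ := hrep.2 Q (fromHom Q ψ.hom) (isHomFamily_fromHom Q ψ.hom)
    let aq : Spec (CommRingCat.of F) ⟶ A.left := aQ.left
    let z := aq.base (IsLocalRing.closedPoint F)
    have hzO : z ∈ O := by
      rw [hO]
      let Z : Over S₀ := Over.mk (A.left.fromSpecResidueField z ≫ A.hom)
      let kZ : Z ⟶ A := Over.homMk (A.left.fromSpecResidueField z) rfl
      have hr : Set.range aQ.left.base ⊆ {z} := by
        rintro _ ⟨p, rfl⟩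
        exact congrArg aQ.left.base
          (@Subsingleton.elim _ (inferInstanceAs (Subsingleton (PrimeSpectrum F))) _ _)
      let g₀ : Spec (CommRingCat.of F) ⟶ Spec (A.left.residueField z) :=
        Spec.map (Scheme.descResidueField (Scheme.stalkClosedPointTo aq))
      have hg₀ : g₀ ≫ A.left.fromSpecResidueField z = aQ.left :=
        Scheme.descResidueField_stalkClosedPointTo_fromSpecResidueField F A.left aq
      let gQ : Q ⟶ Z := Over.homMk g₀ (by
        show g₀ ≫ A.left.fromSpecResidueField z ≫ A.hom = q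
        rw [← Category.assoc, hg₀]
        exact Over.w aQ)
      have hfac : gQ ≫ kZ = aQ := by ext1; exact hg₀
      haveI : Flat gQ.left := inferInstanceAs (Flat g₀)
      haveI : Surjective gQ.left := inferInstanceAs (Surjective g₀)
      haveI : QuasiCompact gQ.left := inferInstanceAs (QuasiCompact g₀)
      haveI : IsIso (toHom Q ((Red.DS S₀ M ◁ gQ) ≫ (Red.DS S₀ M ◁ kZ) ≫ υ)).left := by
        rw [← Category.assoc, ← MonoidalCategory.whiskerLeft_comp, hfac, haQ, toHom_fromHom]
        exact inferInstanceAs (IsIso ((Over.forget _).map ψ.hom))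
      haveI := isIso_toHom_of_cover gQ ((Red.DS S₀ M ◁ kZ) ≫ υ)
      exact (isIso_toHom_iff kZ υ).1 ‹_›
    refine ⟨⟨z, hzO⟩, ?_⟩
    show (O.ι ≫ A.hom).base ⟨z, hzO⟩ = f.base b
    show A.hom.base (aQ.left.base (IsLocalRing.closedPoint F)) = f.base b
    rw [← Scheme.Hom.comp_apply, Over.w aQ]
    show (c ≫ f).base _ = _
    exact congrArg f.base (Scheme.fromSpecResidueField_apply _ _)

/-- A finite étale lift of a group of multiplicative type is of multiplicative type. -/
theorem isMultTypeFT_of_reduction {A : Type u} [CommRing A] (J : Ideal A) (hJ : ∀ x ∈ J, IsNilpotent x)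
    (H : Over (Spec (CommRingCat.of A))) [GrpObj H] [IsFinite H.hom] [Etale H.hom]
    [Surjective (Spec.map (CommRingCat.ofHom (Ideal.Quotient.mk J)))]
    [IsClosedImmersion (Spec.map (CommRingCat.ofHom (Ideal.Quotient.mk J)))]
    (hH₀ : SGA3x.IsMultTypeFT (Red.bc (Spec.map (CommRingCat.ofHom (Ideal.Quotient.mk J))) H)) :
    SGA3x.IsMultTypeFT H := by
  let j := Spec.map (CommRingCat.ofHom (Ideal.Quotient.mk J))
  refine isMultTypeFT_of_local H fun s => ?_
  obtain ⟨s₀, hs₀⟩ := Surjective.surj (f := j) s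
  haveI : IsFinite (Red.bc j H).hom := inferInstanceAs (IsFinite (pullback.snd H.hom j))
  obtain ⟨T₁, M, _, _, hT₁f, hT₁e, ⟨z, hz⟩, ψ, hψ, hψi⟩ := exists_split_piece hH₀ s₀
  haveI := hT₁f
  haveI := hT₁e
  obtain ⟨T, hTf, hTe, ⟨eT⟩⟩ := exists_scheme_lift J hJ T₁
  haveI := hTf
  haveI := hTe
  refine ⟨T.left, T.hom, M, inferInstance, inferInstance, inferInstance, ?_, inferInstance, ?_⟩
  · refine ⟨(pullback.fst T.hom j).base (eT.inv.left.base z), ?_⟩
    rw [← Scheme.Hom.comp_apply, pullback.condition, Scheme.Hom.comp_apply]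
    have h1 := congrArg (fun m => m.base z) (Over.w eT.inv)
    refine (congrArg j.base ?_).trans hs₀
    exact h1.trans hz
  · let T₀ : Over (Spec (CommRingCat.of (A ⧸ J))) := Red.bc j T
    let jT : T₀.left ⟶ T.left := pullback.fst T.hom j
    haveI : IsClosedImmersion jT := inferInstanceAs (IsClosedImmersion (pullback.fst T.hom j))
    haveI : Surjective jT := inferInstanceAs (Surjective (pullback.fst T.hom j))
    -- the isomorphism over `T₀`
    haveI := hψ
    haveI := hψi
    let φ₁ : (Red.DS (Spec (CommRingCat.of (A ⧸ J))) M) ⊗ T₁ ⟶ Red.bc j H := fromHom T₁ ψ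
    haveI : IsIso (toHom T₁ φ₁).left := by
      rw [show toHom T₁ φ₁ = ψ from toHom_fromHom T₁ ψ]
      exact inferInstanceAs (IsIso ((Over.forget _).map ψ))
    let φ₀ := ((Red.DS (Spec (CommRingCat.of (A ⧸ J))) M) ◁ eT.hom) ≫ φ₁
    haveI hψ₀ : IsMonHom (toHom T₀ φ₀) := isMonHom_toHom (T := T₀) (φ := φ₀)
      (RepDescLib.isHomFamily_comp _ (Red.bc j H) eT.hom (isHomFamily_fromHom T₁ ψ))
    haveI : IsIso (toHom T₀ φ₀).left := isIso_toHom_of_isIso_comp eT.hom φ₁
    haveI : IsIso (toHom T₀ φ₀) := by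
      haveI : IsIso ((Over.forget _).map (toHom T₀ φ₀)) := ‹_›
      exact isIso_of_reflects_iso _ (Over.forget _)
    obtain ⟨e₁, he₁⟩ := RedCharZeroLib.exists_DS_bc T₀.hom M
    obtain ⟨e₂, he₂⟩ := RedCharZeroLib.exists_DS_bc jT M
    obtain ⟨e₃, he₃⟩ := RedCharZeroLib.exists_bc_comp T₀.hom j H
    obtain ⟨e₄, he₄⟩ := RedCharZeroLib.exists_bc_comp jT T.hom H
    haveI := he₁
    haveI := he₂
    haveI := he₃
    haveI := he₄
    have hcond : T₀.hom ≫ j = jT ≫ T.hom := (pullback.condition (f := T.hom) (g := j)).symm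
    haveI := isMonHom_eqToHom_bc hcond H
    let D := Red.DS T.left M
    let HT := Red.bc T.hom H
    let E : Red.bc jT D ≅ Red.bc jT HT := e₂.symm ≪≫ e₁ ≪≫ asIso (toHom T₀ φ₀) ≪≫ e₃.symm ≪≫
      eqToIso (congrArg (fun χ => Red.bc χ H) hcond) ≪≫ e₄
    haveI : IsMonHom E.hom := by
      dsimp only [E, Iso.trans_hom, Iso.symm_hom, eqToIso.hom, asIso_hom]
      infer_instance
    haveI : Etale HT.hom := inferInstanceAs (Etale (pullback.snd H.hom T.hom))
    haveI : Etale D.hom := by
      haveI := Groth.Agent.EqNhd.flat_DS T.left M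
      haveI : LocallyOfFinitePresentation D.hom :=
        Groth.Agent.MultEq.lfp_of_isMultTypeFT (isMultTypeFT_DS T.left M inferInstance)
      haveI : Etale (pullback.snd D.hom jT) := by
        show Etale (Red.bc jT D).hom
        rw [← Over.w E.hom]
        haveI : IsIso E.hom.left := inferInstanceAs (IsIso ((Over.forget _).map E.hom))
        haveI : Etale (Red.bc jT HT).hom := inferInstanceAs (Etale (pullback.snd HT.hom jT))
        infer_instance
      exact etale_of_reduction jT D.hom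
    haveI : IsMonHom E.inv := inferInstance
    obtain ⟨g, hgm, hg⟩ := existsUnique_hom jT D HT E.hom
    obtain ⟨g', hgm', hg'⟩ := existsUnique_hom jT HT D E.inv
    haveI := hgm
    have h1 : g' ≫ g = 𝟙 HT := (map_bijective jT HT HT).1 (by
      show (Over.pullback jT).map (g' ≫ g) = (Over.pullback jT).map (𝟙 HT)
      rw [Functor.map_comp, hg, hg', CategoryTheory.Functor.map_id, Iso.inv_hom_id])
    have h2 : g ≫ g' = 𝟙 D := (map_bijective jT D D).1 (by
      show (Over.pullback jT).map (g ≫ g') = (Over.pullback jT).map (𝟙 D)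
      rw [Functor.map_comp, hg, hg', CategoryTheory.Functor.map_id, Iso.hom_inv_id])
    exact ⟨⟨g', g, h1, h2⟩, hgm'⟩

end PowEtCentralLib
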