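import Mathlib
import Groth.Agent.WeilResLib.PowEtale

/-!
# Power maps at central rational points
-/

set_option autoImplicit false

universe u

open CategoryTheory CategoryTheory.Limits AlgebraicGeometry MonoidalCategory CartesianMonoidalCategory
open MonObj
open scoped Hom

namespace PowEtCentralLib

variable {C : Type*} [Category C] [CartesianMonoidalCategory C] {G : C} [GrpObj G]

/-- Left translation by a point, as an automorphism of the object. -/
def translate (g : 𝟙_ C ⟶ G) : G ≅ G where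
  hom := (toUnit G ≫ g) * 𝟙 G
  inv := (toUnit G ≫ g⁻¹) * 𝟙 G
  hom_inv_id := by
    rw [MonObj.comp_mul, Category.comp_id, ← Category.assoc, comp_toUnit, ← _root_.mul_assoc,
      GrpObj.comp_inv, inv_mul_cancel, _root_.one_mul]
  inv_hom_id := by
    rw [MonObj.comp_mul, Category.comp_id, ← Category.assoc, comp_toUnit, ← _root_.mul_assoc,
      GrpObj.comp_inv, mul_inv_cancel, _root_.one_mul]

theorem translate_pow (g : 𝟙_ C ⟶ G)
    (hg : ∀ (X : C) (x : X ⟶ G), (toUnit X ≫ g) * x = x * (toUnit X ≫ g)) (n : ℕ) :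
    (translate g).hom ≫ ((𝟙 G : G ⟶ G) ^ n) = ((𝟙 G : G ⟶ G) ^ n) ≫ (translate (g ^ n)).hom := by
  show ((toUnit G ≫ g) * 𝟙 G) ≫ _ = _ ≫ ((toUnit G ≫ g ^ n) * 𝟙 G)
  rw [MonObj.comp_pow, Category.comp_id, Commute.mul_pow (hg G (𝟙 G)), MonObj.comp_mul,
    Category.comp_id, ← Category.assoc, comp_toUnit, MonObj.comp_pow]

theorem unit_translate (g : 𝟙_ C ⟶ G) : η[G] ≫ (translate g).hom = g := by
  show η[G] ≫ ((toUnit G ≫ g) * 𝟙 G) = g
  rw [MonObj.comp_mul, Category.comp_id, ← Category.assoc, comp_toUnit]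
  simp [MonObj.one_eq_one]

/-- The `n`-th power map is étale near a central rational point, `n` invertible. -/
theorem exists_etale_nhd {k : Type u} [Field k] (G : Over (Spec (CommRingCat.of k))) [GrpObj G]
    [LocallyOfFiniteType G.hom] (n : ℕ) (hn : (n : k) ≠ 0)
    (g : 𝟙_ (Over (Spec (CommRingCat.of k))) ⟶ G)
    (hg : ∀ (X : Over (Spec (CommRingCat.of k))) (x : X ⟶ G),
      (toUnit X ≫ g) * x = x * (toUnit X ≫ g)) :
    ∃ U : G.left.Opens, Set.range g.left.base ⊆ (U : Set ↥G.left) ∧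
      Etale (U.ι ≫ ((𝟙 G : G ⟶ G) ^ n).left) := by
  obtain ⟨U, heU, hU⟩ := WeilResLib.exists_open_etale_pow G n hn
  let t : G.left ≅ G.left := (Over.forget _).mapIso (translate g)
  let t' : G.left ≅ G.left := (Over.forget _).mapIso (translate (g ^ n))
  refine ⟨t.inv ⁻¹ᵁ U, ?_, ?_⟩
  · rintro _ ⟨p, rfl⟩
    have hp : p = IsLocalRing.closedPoint k :=
      @Subsingleton.elim _ (inferInstanceAs (Subsingleton (PrimeSpectrum k))) _ _
    have h1 : g.left ≫ t.inv = (η[G] : 𝟙_ (Over (Spec (CommRingCat.of k))) ⟶ G).left := by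
      rw [Iso.comp_inv_eq]
      exact (congrArg Over.Hom.left (unit_translate g)).symm
    show t.inv.base (g.left.base p) ∈ U
    rw [← Scheme.Hom.comp_apply, h1, hp]
    exact heU
  · have key : (t.inv ⁻¹ᵁ U).ι ≫ ((𝟙 G : G ⟶ G) ^ n).left =
        (t.inv ∣_ U) ≫ (U.ι ≫ ((𝟙 G : G ⟶ G) ^ n).left) ≫ t'.hom := by
      rw [← Category.assoc, ← Category.assoc, morphismRestrict_ι, Category.assoc, Category.assoc]
      congr 1
      rw [Iso.eq_inv_comp]
      exact congrArg Over.Hom.left (translate_pow g hg n)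
    rw [key]
    infer_instance

end PowEtCentralLib
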