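import Mathlib
import Groth.Agent.PowEtCentralLib.Field
import Groth.Agent.PowEtCentralLib.Transport
import Groth.Agent.Unram17Lib.FibreMap
import Groth.Agent.S2806

/-!
# Étaleness of power maps at central points
-/

set_option autoImplicit false
set_option backward.isDefEq.respectTransparency false

noncomputable section

universe u

open CategoryTheory CategoryTheory.Limits AlgebraicGeometry MonoidalCategory CartesianMonoidalCategory
open scoped MonObj Hom

namespace PowEtCentralLib

theorem pullback_map_pow {S₀ S : Scheme.{u}} (j : S₀ ⟶ S) {G : Over S} [GrpObj G] {X : Over S}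
    (x : X ⟶ G) (n : ℕ) : (Over.pullback j).map (x ^ n) = (Over.pullback j).map x ^ n := by
  rw [← adjEquiv_inc, ← adjEquiv_inc, MonObj.comp_pow, map_pow]

/-- Relative form, at a rational point of a fibre. -/
theorem exists_nhd_of_fibre {T : Scheme.{u}} (G : Over T) [GrpObj G] [Flat G.hom]
    [LocallyOfFinitePresentation G.hom] (n : ℕ) (h : T) (hn : (n : T.residueField h) ≠ 0)
    (g : 𝟙_ (Over (Spec (T.residueField h))) ⟶ Red.bc (T.fromSpecResidueField h) G)
    (hg : ∀ (X : Over (Spec (T.residueField h))) (x : X ⟶ Red.bc (T.fromSpecResidueField h) G),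
      (toUnit X ≫ g) * x = x * (toUnit X ≫ g)) :
    ∃ U : G.left.Opens, (pullback.fst G.hom (T.fromSpecResidueField h)).base
        (g.left.base (IsLocalRing.closedPoint (T.residueField h))) ∈ U ∧
      Etale (U.ι ≫ ((𝟙 G : G ⟶ G) ^ n).left) := by
  let κ := T.fromSpecResidueField h
  haveI : LocallyOfFiniteType (Red.bc κ G).hom :=
    inferInstanceAs (LocallyOfFiniteType (pullback.snd G.hom κ))
  obtain ⟨V, hV, hVet⟩ := exists_etale_nhd (k := T.residueField h) (Red.bc κ G) n hn g hg
  have hmap : (Over.pullback κ).map ((𝟙 G : G ⟶ G) ^ n) = (𝟙 (Red.bc κ G) : _ ⟶ Red.bc κ G) ^ n := by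
    rw [pullback_map_pow, CategoryTheory.Functor.map_id]
  set x := (pullback.fst G.hom κ).base (g.left.base (IsLocalRing.closedPoint (T.residueField h))) with hxdef
  have hx : G.hom.base x = h := by
    show (pullback.fst G.hom κ ≫ G.hom).base _ = h
    rw [pullback.condition, Scheme.Hom.comp_apply]
    exact Scheme.fromSpecResidueField_apply _ _
  clear_value x
  have hx' := hxdef.symm
  clear hxdef
  have hflat : (G.hom.stalkMap x).hom.Flat := Flat.stalkMap _ x
  subst hx
  refine (Unram17Lib.etaleAt_fibreMap G.hom G.hom ((𝟙 G : G ⟶ G) ^ n).left (Over.w _) x hflat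
    (g.left.base (IsLocalRing.closedPoint (T.residueField (G.hom.base x)))) ?_).mpr
    ⟨V, hV ⟨_, rfl⟩, ?_⟩
  · exact hx'
  · have : CohIII.fiberMapOver ((𝟙 G : G ⟶ G) ^ n).left G.hom G.hom (Over.w _) (G.hom.base x) =
        ((𝟙 (Red.bc κ G) : _ ⟶ Red.bc κ G) ^ n).left := by
      rw [← hmap]
      apply pullback.hom_ext
      · exact (pullback.lift_fst _ _ _).trans (pullback.lift_fst _ _ _).symm
      · exact ((pullback.lift_snd _ _ _).trans (Category.comp_id _)).trans
          (pullback.lift_snd _ _ _).symm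
    rw [this]
    exact hVet

/-- The power map is étale at points of `G` which are central over an étale `S`-scheme. -/
theorem exists_nhd_of_point {S : Scheme.{u}} (G : Over S) [GrpObj G] [Flat G.hom]
    [LocallyOfFinitePresentation G.hom] {T : Scheme.{u}} (t : T ⟶ S) [Etale t] (n : ℕ) (h : T)
    (hn : (n : T.residueField h) ≠ 0)
    (a : (Over.map t).obj ((Over.map (T.fromSpecResidueField h)).obj (𝟙_ _)) ⟶ G)
    (ha : ∀ (Y : Over (Spec (T.residueField h)))
      (y : (Over.map t).obj ((Over.map (T.fromSpecResidueField h)).obj Y) ⟶ G),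
      ((Over.map t).map ((Over.map (T.fromSpecResidueField h)).map (toUnit Y)) ≫ a) * y =
        y * ((Over.map t).map ((Over.map (T.fromSpecResidueField h)).map (toUnit Y)) ≫ a)) :
    ∃ U : G.left.Opens, a.left.base (IsLocalRing.closedPoint (T.residueField h)) ∈ U ∧
      Etale (U.ι ≫ ((𝟙 G : G ⟶ G) ^ n).left) := by
  let κ := T.fromSpecResidueField h
  let E := fun Y : Over (Spec (T.residueField h)) =>
    (adjEquiv (G := G) t ((Over.map κ).obj Y)).trans (adjEquiv (G := Red.bc t G) κ Y)
  haveI : Flat (Red.bc t G).hom := inferInstanceAs (Flat (pullback.snd G.hom t))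
  haveI : LocallyOfFinitePresentation (Red.bc t G).hom :=
    inferInstanceAs (LocallyOfFinitePresentation (pullback.snd G.hom t))
  have hg : ∀ (X : Over (Spec (T.residueField h))) (x : X ⟶ Red.bc κ (Red.bc t G)),
      (toUnit X ≫ E _ a) * x = x * (toUnit X ≫ E _ a) := by
    intro X x
    obtain ⟨y, rfl⟩ := (E X).surjective x
    have hnat : toUnit X ≫ E _ a = E X ((Over.map t).map ((Over.map κ).map (toUnit X)) ≫ a) := by
      show _ = (Over.mapPullbackAdj κ).homEquiv _ _ ((Over.mapPullbackAdj t).homEquiv _ _ _)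
      rw [Adjunction.homEquiv_naturality_left, Adjunction.homEquiv_naturality_left]
      rfl
    rw [hnat, ← map_mul, ← map_mul, ha]
  obtain ⟨U, hU, hUet⟩ := exists_nhd_of_fibre (Red.bc t G) n h hn (E _ a) hg
  set p := IsLocalRing.closedPoint (T.residueField h)
  set z := (pullback.fst (Red.bc t G).hom κ).base ((E _ a).left.base p) with hz
  have hza : (pullback.fst G.hom t).base z = a.left.base p := by
    have e2 : (E _ a).left ≫ pullback.fst (Red.bc t G).hom κ =
        (adjEquiv (G := G) t ((Over.map κ).obj (𝟙_ _)) a).left :=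
      congrArg Over.Hom.left (((Over.mapPullbackAdj κ).homEquiv _ (Red.bc t G)).symm_apply_apply
        (adjEquiv (G := G) t ((Over.map κ).obj (𝟙_ _)) a)) |>.symm.trans (by
          rw [Adjunction.homEquiv_counit]; rfl) |>.symm
    have e1 : (adjEquiv (G := G) t ((Over.map κ).obj (𝟙_ _)) a).left ≫ pullback.fst G.hom t = a.left := by
      have h1 := congrArg Over.Hom.left (((Over.mapPullbackAdj t).homEquiv _ G).symm_apply_apply a)
      rw [Adjunction.homEquiv_counit] at h1
      exact h1
    rw [hz]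
    have h2 := congrArg (fun m => m.base p) e2
    have h1 := congrArg (fun m => m.base p) e1
    refine Eq.trans ?_ h1
    exact congrArg (pullback.fst G.hom t).base h2
  let φ := ((𝟙 G : G ⟶ G) ^ n).left
  have hsq : ((𝟙 (Red.bc t G) : _ ⟶ Red.bc t G) ^ n).left ≫ pullback.fst G.hom t =
      pullback.fst G.hom t ≫ φ := by
    have hm : (Over.pullback t).map ((𝟙 G : G ⟶ G) ^ n) = (𝟙 (Red.bc t G) : _ ⟶ Red.bc t G) ^ n := by
      rw [pullback_map_pow, CategoryTheory.Functor.map_id]
    rw [← hm]
    exact pullback.lift_fst _ _ _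
  haveI := hUet
  haveI : Etale (U.ι ≫ ((𝟙 (Red.bc t G) : _ ⟶ Red.bc t G) ^ n).left ≫ pullback.fst G.hom t) := by
    rw [← Category.assoc]; infer_instance
  haveI : LocallyOfFinitePresentation φ := by
    haveI : LocallyOfFinitePresentation (φ ≫ G.hom) := by rw [Over.w]; infer_instance
    exact Groth.Agent.S12442.lfp_of_comp_lft φ G.hom
  obtain ⟨V, hV, hVet⟩ := Groth.Agent.S2806.result φ
    (U.ι ≫ ((𝟙 (Red.bc t G) : _ ⟶ Red.bc t G) ^ n).left ≫ pullback.fst G.hom t)
    (U.ι ≫ pullback.fst G.hom t) (by rw [Category.assoc, hsq]) ⟨z, hU⟩ (Flat.stalkMap _ _)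
    ⟨⊤, trivial, inferInstance⟩
  refine ⟨V, ?_, hVet⟩
  rw [← hza]
  exact hV

end PowEtCentralLib
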