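import Mathlib
import Groth.Agent.MultHomLib.FinGlobal
import Groth.Agent.AlgSpLib.ReducedSmooth
import Groth.Agent.PowEtCentralLib.SmoothFinite

/-!
# A finite smooth group of multiplicative type is killed by an invertible integer
-/

set_option autoImplicit false
set_option backward.isDefEq.respectTransparency false

noncomputable section

universe u

open CategoryTheory CategoryTheory.Limits MonoidalCategory CartesianMonoidalCategory AlgebraicGeometry CoactBr
open scoped MonObj Hom
open Groth.Agent.FreeAct (DA)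

namespace PowEtCentralLib

attribute [local instance] CoactBr.braidedAlgSpecOf

variable {R : Type u} [CommRing R] {M : Type} [AddCommGroup M] {K : Type u} [CommRing K] [Algebra R K]

/-- Powers of points of a diagonalisable group. -/
theorem pt_pow (g : DA R M →ₐ[R] K) :
    ∀ n : ℕ, pt g ^ n = pt (Groth.Agent.FreeAct.chr (R := R) (M := M) K
      { toFun := fun m => g (MonoidAlgebra.single m 1) ^ n
        map_one' := by rw [← MonoidAlgebra.one_def, map_one, one_pow]
        map_mul' := fun a b => by
          rw [← mul_pow, ← map_mul, MonoidAlgebra.single_mul_single, _root_.one_mul] })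
  | 0 => by
    rw [pow_zero]
    refine (map_one (Spec.mapMulEquiv (R := CommRingCat.of R))).symm.trans ?_
    refine congrArg pt (AlgHom.toLinearMap_injective ((Groth.Agent.FreeAct.bas R M).ext fun m => ?_))
    simp [Groth.Agent.FreeAct.bas_apply, Groth.Agent.FreeAct.chr]
  | n + 1 => by
    rw [pow_succ, pt_pow g n, pt_mul_pt]
    refine congrArg pt (AlgHom.toLinearMap_injective ((Groth.Agent.FreeAct.bas R M).ext fun m => ?_))
    simp [Groth.Agent.FreeAct.bas_apply, Groth.Agent.FreeAct.chr, pow_succ]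

theorem pow_card_sp [Finite M] :
    (𝟙 (sp R (DA R M)) : sp R (DA R M) ⟶ sp R (DA R M)) ^ Nat.card M = 1 := by
  rw [← pt_id, pt_pow, ← pow_zero (pt (AlgHom.id R (DA R M))), pt_pow]
  refine congrArg pt (AlgHom.toLinearMap_injective ((Groth.Agent.FreeAct.bas R M).ext fun m => ?_))
  have h : m ^ Nat.card M = 1 := by
    rw [show Nat.card M = Nat.card (Multiplicative M) from rfl]
    exact pow_card_eq_one'
  simp [Groth.Agent.FreeAct.bas_apply, Groth.Agent.FreeAct.chr, MonoidAlgebra.single_pow, h, MonoidAlgebra.one_def]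

theorem isUnit_card {F : Type u} [Field F] [Finite M] (hred : _root_.IsReduced (DA F M)) :
    ((Nat.card M : ℕ) : F) ≠ 0 := by
  intro h0
  haveI hp : Fact (ringChar F).Prime := by
    refine ⟨(CharP.char_is_prime_or_zero F (ringChar F)).resolve_right fun hz => ?_⟩
    have hd := (ringChar.spec F (Nat.card M)).mp h0
    rw [hz, zero_dvd_iff] at hd
    exact Nat.card_pos.ne' hd
  have hd : ringChar F ∣ Nat.card (Multiplicative M) := (ringChar.spec F (Nat.card M)).mp h0
  obtain ⟨m, hm⟩ := exists_prime_orderOf_dvd_card' (ringChar F) hd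
  haveI : CharP (DA F M) (ringChar F) :=
    charP_of_injective_algebraMap (algebraMap F (DA F M)).injective _
  have h1 : (MonoidAlgebra.single m (1 : F) - 1 : DA F M) ^ ringChar F = 0 := by
    rw [sub_pow_char, MonoidAlgebra.single_pow, _root_.one_pow, one_pow, ← hm, pow_orderOf_eq_one,
      ← MonoidAlgebra.one_def, sub_self]
  have h2 : (MonoidAlgebra.single m (1 : F) : DA F M) = MonoidAlgebra.single 1 1 :=
    sub_eq_zero.mp (hred.eq_zero _ ⟨_, h1⟩)
  have h3 := (MonoidAlgebra.single_left_inj (one_ne_zero (α := F))).mp h2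
  rw [h3, orderOf_one] at hm
  exact hp.out.one_lt.ne hm

/-- A finite smooth group of multiplicative type is, near each point of the base, killed by an integer
invertible there. -/
theorem exists_killing {S : Scheme.{u}} (H : Over S) [GrpObj H]
    [IsFinite H.hom] [Smooth H.hom] (hH : SGA3x.IsMultTypeFT H) (s : S) :
    ∃ (U : S.Opens) (n : ℕ), s ∈ U ∧ (∀ t ∈ U, (n : S.residueField t) ≠ 0) ∧
      ∀ (X : Over S) (x : X ⟶ H), Set.range X.hom.base ⊆ (U : Set S) → x ^ n = 1 := by
  classical
  obtain ⟨S', f, hflat, hsurj, -, hloc⟩ := id hH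
  obtain ⟨b, rfl⟩ := Surjective.surj (f := f) s
  obtain ⟨U, hbU, M, _, -, ⟨e⟩⟩ := hloc b
  obtain ⟨T, hT, hbT, hTU⟩ := exists_isAffineOpen_mem_and_subset (U := U) hbU
  haveI : IsAffine (T : Scheme.{u}) := hT
  let R : Type u := Γ((T : Scheme.{u}), ⊤)
  let j : Spec (CommRingCat.of R) ⟶ (T : Scheme.{u}) := (T : Scheme.{u}).isoSpec.inv
  let p : Spec (CommRingCat.of R) ⟶ S := j ≫ T.ι ≫ f
  obtain ⟨w, hw⟩ := Groth.Agent.MultLift.exists_split_iso e (j ≫ S'.homOfLE hTU) p (by
    rw [Category.assoc, Scheme.homOfLE_ι_assoc])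
  haveI := hw
  haveI : Nontrivial R := by
    obtain ⟨a, -⟩ := (T : Scheme.{u}).isoSpec.inv.surjective ⟨b, hbT⟩
    exact PrimeSpectrum.nontrivial (a : PrimeSpectrum R)
  haveI := Groth.Agent.MultHom.finite_of_isFinite p w
  let n := Nat.card M
  let E : ((Over.map p).obj (sp R (DA R M)) ⟶ H) ≃* (sp R (DA R M) ⟶ Red.bc p H) :=
    { (Over.mapPullbackAdj p).homEquiv _ H with map_mul' := AlgGrp.Action.homEquiv_mul p }
  set a := E.symm w.hom with ha
  have hpow : a ^ n = 1 := by
    apply E.injective
    rw [map_pow, map_one, MulEquiv.apply_symm_apply]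
    have h := congrArg (· ≫ w.hom) (pow_card_sp (R := R) (M := M))
    simp only [MonObj.pow_comp, Category.id_comp, MonObj.one_comp] at h
    exact h
  let q : PrimeSpectrum R := (T : Scheme.{u}).isoSpec.hom.base ⟨b, hbT⟩
  have hpq : p.base q = f.base b := by
    show (j ≫ T.ι ≫ f).base ((T : Scheme.{u}).isoSpec.hom.base ⟨b, hbT⟩) = _
    have := congrArg (fun m : (T : Scheme.{u}) ⟶ S => m.base ⟨b, hbT⟩)
      ((T : Scheme.{u}).isoSpec.hom_inv_id_assoc (T.ι ≫ f))
    exact this
  -- the integer is invertible at `s`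
  have hn : (n : S.residueField (f.base b)) ≠ 0 := by
    let F := q.asIdeal.ResidueField
    let κ : Spec (CommRingCat.of F) ⟶ Spec (CommRingCat.of R) :=
      Spec.map (CommRingCat.ofHom (algebraMap R F))
    obtain ⟨w', hw'⟩ := Groth.Agent.MultLift.exists_split_iso e (κ ≫ j ≫ S'.homOfLE hTU) (κ ≫ p) (by
      rw [Category.assoc, Category.assoc, Scheme.homOfLE_ι_assoc])
    haveI : Smooth (sp F (DA F M)).hom := by
      rw [← Over.w w'.hom]
      haveI : Smooth (Red.bc (κ ≫ p) H).hom :=
        inferInstanceAs (Smooth (pullback.snd H.hom (κ ≫ p)))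
      infer_instance
    haveI : IsReduced (sp F (DA F M)).left := AlgSpLib.isReduced_of_smooth (sp F (DA F M)).hom
    haveI hred : _root_.IsReduced (DA F M) :=
      (affine_isReduced_iff (CommRingCat.of (DA F M))).mp
        (inferInstanceAs (IsReduced (sp F (DA F M)).left))
    have hne : (n : F) ≠ 0 := isUnit_card hred
    let g : Spec (CommRingCat.of F) ⟶ S := κ ≫ p
    have hg : g.base (IsLocalRing.closedPoint F) = f.base b := by
      rw [← hpq]
      show p.base (κ.base _) = p.base q
      congr 1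
      refine PrimeSpectrum.ext ?_
      show Ideal.comap (algebraMap R F) (IsLocalRing.closedPoint F).asIdeal = q.asIdeal
      rw [show (IsLocalRing.closedPoint F).asIdeal = ⊥ from IsLocalRing.maximalIdeal_eq_bot]
      exact Ideal.ker_algebraMap_residueField q.asIdeal
    intro h0
    apply hne
    rw [← hg] at h0
    have := congrArg (S.descResidueField (Scheme.stalkClosedPointTo g)).hom h0
    rwa [map_natCast, map_zero] at this
  -- the locus killed by `n`
  haveI : Etale H.hom := etale_of_isFinite_smooth H.hom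
  let φ := ((𝟙 H : H ⟶ H) ^ n).left
  let ψ := (1 : H ⟶ H).left
  let δ : H.left ⟶ pullback H.hom H.hom := pullback.lift φ ψ (by simp [φ, ψ])
  let ιE : pullback (pullback.diagonal H.hom) δ ⟶ H.left := pullback.snd _ _
  have hιE : ιE ≫ φ = ιE ≫ ψ := by
    have h := pullback.condition (f := pullback.diagonal H.hom) (g := δ)
    have h1 := congrArg (· ≫ pullback.fst H.hom H.hom) h
    have h2 := congrArg (· ≫ pullback.snd H.hom H.hom) h
    simp only [Category.assoc, pullback.diagonal_fst, pullback.diagonal_snd, δ, pullback.lift_fst,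
      pullback.lift_snd, Category.comp_id] at h1 h2
    exact h1.symm.trans h2
  haveI : IsOpenImmersion (pullback.diagonal H.hom) := inferInstance
  haveI : IsOpenImmersion ιE := inferInstance
  let O : H.left.Opens := ιE.opensRange
  have hc : IsClosed (H.hom.base '' ((O : Set H.left)ᶜ)) := H.hom.isClosedMap _ O.isOpen.isClosed_compl
  let V : S.Opens := ⟨(H.hom.base '' ((O : Set H.left)ᶜ))ᶜ, hc.isOpen_compl⟩
  have hsV : f.base b ∈ V := by
    rintro ⟨h, hh, hhs⟩
    apply hh
    obtain ⟨z, hz, -⟩ := Scheme.Pullback.exists_preimage_pullback (f := H.hom) (g := p) h q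
      (hhs.trans hpq.symm)
    haveI : IsIso w.hom.left := inferInstanceAs (IsIso ((Over.forget _).map w.hom))
    let y := (inv w.hom.left).base z
    have hy : a.left.base y = h := by
      show (((Over.mapPullbackAdj p).homEquiv _ H).symm w.hom).left.base y = h
      rw [Adjunction.homEquiv_counit]
      show (w.hom.left ≫ pullback.fst H.hom p).base ((inv w.hom.left).base z) = h
      rw [← Scheme.Hom.comp_apply, IsIso.inv_hom_id_assoc]
      exact hz
    have heq : a.left ≫ φ = a.left ≫ ψ := by
      have : a ≫ (𝟙 H : H ⟶ H) ^ n = a ≫ (1 : H ⟶ H) := by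
        rw [MonObj.comp_pow, Category.comp_id, hpow, MonObj.comp_one]
      exact congrArg Over.Hom.left this
    let l : _ ⟶ pullback (pullback.diagonal H.hom) δ := pullback.lift (a.left ≫ φ) a.left (by
      apply pullback.hom_ext <;> simp [δ, heq])
    refine ⟨l.base y, ?_⟩
    rw [← Scheme.Hom.comp_apply, show l ≫ ιE = a.left from pullback.lift_snd _ _ _]
    exact hy
  obtain ⟨U', hsU', hunit⟩ : ∃ U' : S.Opens, f.base b ∈ U' ∧
      ∀ t ∈ U', (n : S.residueField t) ≠ 0 := by
    have hev : ∀ t : S, (S.evaluation ⊤ t trivial).hom (n : Γ(S, ⊤)) = (n : S.residueField t) :=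
      fun t => map_natCast _ n
    refine ⟨S.basicOpen (n : Γ(S, ⊤)), ?_, fun t ht => ?_⟩
    · rw [← S.evaluation_ne_zero_iff_mem_basicOpen (U := ⊤) (f.base b) trivial]
      rw [hev]
      exact hn
    · rw [← S.evaluation_ne_zero_iff_mem_basicOpen (U := ⊤) t trivial, hev] at ht
      exact ht
  refine ⟨V ⊓ U', n, ⟨hsV, hsU'⟩, fun t ht => hunit t ht.2, fun X x hX => ?_⟩
  have hr : Set.range x.left.base ⊆ Set.range ιE.base := by
    rintro _ ⟨z, rfl⟩
    by_contra hz
    have h1 := (hX ⟨z, rfl⟩).1
    apply h1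
    refine ⟨x.left.base z, hz, ?_⟩
    rw [← Scheme.Hom.comp_apply, Over.w x]
  have h : x ≫ (𝟙 H : H ⟶ H) ^ n = x ≫ (1 : H ⟶ H) := by
    ext1
    show x.left ≫ φ = x.left ≫ ψ
    rw [← IsOpenImmersion.lift_fac ιE x.left hr, Category.assoc, Category.assoc, hιE]
  rwa [MonObj.comp_pow, Category.comp_id, MonObj.comp_one] at h

end PowEtCentralLib
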