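import Mathlib
import Groth.Agent.PowEtCentralLib.EtaleLift
import Groth.Agent.PowEtCentralLib.Nhd
import Groth.Agent.PowEtCentralLib.Torsion
import Groth.Agent.Unram17Lib.FibreLociSmooth

/-!
# Lifting central homomorphisms from finite étale groups of multiplicative type
-/

set_option autoImplicit false
set_option backward.isDefEq.respectTransparency false

noncomputable section

universe u

open CategoryTheory CategoryTheory.Limits AlgebraicGeometry MonoidalCategory CartesianMonoidalCategory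
open scoped MonObj Hom

namespace PowEtCentralLib

variable {S : Scheme.{u}} (G : Over S) [GrpObj G] (n : ℕ)

/-- The locus where the `n`-th power map is étale. -/
def etLocus : G.left.Opens :=
  ⟨Unram17Lib.FibreLoci.at' @Etale ((𝟙 G : G ⟶ G) ^ n).left,
    Unram17Lib.FibreLoci.isOpen_at' _ _⟩

instance etale_etLocus : Etale ((etLocus G n).ι ≫ ((𝟙 G : G ⟶ G) ^ n).left) := by
  rw [← Unram17Lib.FibreLoci.at'_eq_univ_iff (P := @Etale)]
  refine Set.eq_univ_iff_forall.mpr fun z => ?_
  obtain ⟨V, hzV, hV⟩ := z.2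
  refine ⟨(etLocus G n).ι ⁻¹ᵁ V, hzV, ?_⟩
  rw [← Category.assoc, ← morphismRestrict_ι, Category.assoc]
  infer_instance

/-- The points of the étale locus killed by `n`. -/
abbrev torsion : Scheme.{u} :=
  pullback ((etLocus G n).ι ≫ ((𝟙 G : G ⟶ G) ^ n).left) (η[G] : 𝟙_ (Over S) ⟶ G).left

/-- Its structure map. -/
abbrev torsionπ : torsion G n ⟶ S :=
  pullback.snd ((etLocus G n).ι ≫ ((𝟙 G : G ⟶ G) ^ n).left) (η[G] : 𝟙_ (Over S) ⟶ G).left

variable {G n}

theorem exists_torsion_lift {X : Over S} (y : X ⟶ G) (hy : y ^ n = 1)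
    (hr : Set.range y.left.base ⊆ (etLocus G n : Set G.left)) :
    ∃ l : X.left ⟶ torsion G n, l ≫ torsionπ G n = X.hom ∧
      l ≫ pullback.fst _ _ ≫ (etLocus G n).ι = y.left := by
  have hr' : Set.range y.left.base ⊆ Set.range (etLocus G n).ι.base := by
    rwa [Scheme.Opens.range_ι]
  refine ⟨pullback.lift (IsOpenImmersion.lift (etLocus G n).ι y.left hr') X.hom ?_, pullback.lift_snd _ _ _, ?_⟩
  · rw [IsOpenImmersion.lift_fac_assoc]
    have h : y ≫ (𝟙 G : G ⟶ G) ^ n = toUnit X ≫ η[G] := by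
      rw [MonObj.comp_pow, Category.comp_id, hy]
      rfl
    exact congrArg Over.Hom.left h
  · rw [pullback.lift_fst_assoc, IsOpenImmersion.lift_fac]

variable {S₀ : Scheme.{u}} (j : S₀ ⟶ S) [IsClosedImmersion j]

omit [GrpObj G] [IsClosedImmersion j] in
theorem surjective_inc_of_range {X : Over S} (h : Set.range X.hom.base ⊆ Set.range j.base) :
    Surjective (inc j X).left := by
  refine ⟨fun z => ?_⟩
  obtain ⟨w, hw⟩ := h ⟨z, rfl⟩
  obtain ⟨p, hp, -⟩ := Scheme.Pullback.exists_preimage_pullback (f := X.hom) (g := j) z w hw.symm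
  exact ⟨p, by rw [inc_left]; exact hp⟩

theorem range_subset_of_inc {X : Over S} [Surjective (inc j X).left] (y : X ⟶ G) (y₀ : res j X ⟶ G) (h : inc j X ≫ y = y₀)
    (V : G.left.Opens) (hr : Set.range y₀.left.base ⊆ (V : Set G.left)) :
    Set.range y.left.base ⊆ (V : Set G.left) := by
  rintro _ ⟨q, rfl⟩
  obtain ⟨p, rfl⟩ := (inc j X).left.surjective q
  refine hr ⟨p, ?_⟩
  rw [← h]
  rfl

theorem eq_of_killed {X : Over S} [Surjective (inc j X).left] (y y' : X ⟶ G) (h : inc j X ≫ y = inc j X ≫ y')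
    (hy : y ^ n = 1) (hy' : y' ^ n = 1)
    (hr : Set.range (inc j X ≫ y).left.base ⊆ (etLocus G n : Set G.left)) : y = y' := by
  obtain ⟨l, hl, hl'⟩ := exists_torsion_lift y hy (range_subset_of_inc j y _ rfl _ hr)
  obtain ⟨m, hm, hm'⟩ := exists_torsion_lift y' hy' (range_subset_of_inc j y' _ h.symm _ hr)
  have hlm : l = m := by
    refine eq_of_surjective_comp (inc j X).left (torsionπ G n) l m (hl.trans hm.symm) ?_
    apply pullback.hom_ext
    · rw [← cancel_mono (etLocus G n).ι]
      simp only [Category.assoc]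
      rw [hl', hm']
      exact congrArg Over.Hom.left h
    · rw [Category.assoc, Category.assoc]
      exact congrArg ((inc j X).left ≫ ·) (hl.trans hm.symm)
  ext1
  rw [← hl', hlm, hm']

theorem exists_killed_extend {X : Over S} [Surjective (inc j X).left] (y₀ : res j X ⟶ G) (hy : y₀ ^ n = 1)
    (hr : Set.range y₀.left.base ⊆ (etLocus G n : Set G.left)) :
    ∃ y : X ⟶ G, y ^ n = 1 ∧ inc j X ≫ y = y₀ := by
  obtain ⟨l, hl, hl'⟩ := exists_torsion_lift y₀ hy hr
  obtain ⟨g, hg, hg'⟩ := exists_extend (inc j X).left X.hom (torsionπ G n) l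
    (hl.trans (Over.w (inc j X)).symm)
  have hc : pullback.fst ((etLocus G n).ι ≫ ((𝟙 G : G ⟶ G) ^ n).left) (η[G] : 𝟙_ (Over S) ⟶ G).left ≫
      (etLocus G n).ι ≫ ((𝟙 G : G ⟶ G) ^ n).left = torsionπ G n ≫ (η[G] : 𝟙_ (Over S) ⟶ G).left :=
    pullback.condition
  have hgw : (g ≫ pullback.fst _ _ ≫ (etLocus G n).ι) ≫ G.hom = X.hom := by
    have h1 := congrArg (g ≫ · ≫ G.hom) hc
    simp only [Category.assoc, Over.w] at h1 ⊢
    rw [h1, ← Category.assoc, hg]
    exact Category.comp_id _
  refine ⟨Over.homMk (g ≫ pullback.fst _ _ ≫ (etLocus G n).ι) hgw, ?_, ?_⟩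
  · have h : (Over.homMk (g ≫ pullback.fst _ _ ≫ (etLocus G n).ι) hgw : X ⟶ G) ≫ (𝟙 G : G ⟶ G) ^ n =
        toUnit X ≫ η[G] := by
      ext1
      simp only [Over.comp_left, Over.homMk_left, Category.assoc]
      rw [hc, ← Category.assoc, hg]
      rfl
    rw [MonObj.comp_pow, Category.comp_id] at h
    exact h
  · ext1
    show (inc j X).left ≫ g ≫ pullback.fst _ _ ≫ (etLocus G n).ι = y₀.left
    rw [← Category.assoc, hg', hl']

variable {H : Over S} [GrpObj H] [Etale H.hom] [Flat G.hom] [LocallyOfFinitePresentation G.hom]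
  (u₀ : Red.bc j H ⟶ Red.bc j G) [IsMonHom u₀]
  (hc₀ : ∀ (X₀ : Over S₀) (x : X₀ ⟶ Red.bc j H) (g : X₀ ⟶ Red.bc j G), (x ≫ u₀) * g = g * (x ≫ u₀))

/-- `n` is invertible along `X`. -/
def Inv (n : ℕ) (X : Over S) : Prop := ∀ q : X.left, (n : S.residueField (X.hom.base q)) ≠ 0

omit [GrpObj G] [Flat G.hom] [LocallyOfFinitePresentation G.hom] in
theorem Inv.comp {n : ℕ} {X Y : Over S} (h : Inv n X) (k : Y ⟶ X) : Inv n Y := by
  intro q
  have h1 := h (k.left.base q)
  rwa [← Scheme.Hom.comp_apply, Over.w k] at h1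

include hc₀ in
theorem range_tau_subset (n : ℕ) {X : Over S} (hX : Inv n X) (x : X ⟶ H) :
    Set.range (tau j u₀ x).left.base ⊆ (etLocus G n : Set G.left) := by
  rintro _ ⟨p, rfl⟩
  set q := (inc j X).left.base p with hq
  set h := x.left.base q with hh
  have hn : (n : H.left.residueField h) ≠ 0 := by
    intro h0
    have h2 : H.hom.base h = X.hom.base q := by rw [hh, ← Scheme.Hom.comp_apply, Over.w x]
    have h1 := hX q
    rw [← h2] at h1
    apply h1
    apply (H.hom.residueFieldMap h).hom.injective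
    rw [map_natCast, map_zero]
    exact h0
  let P : Over S := (Over.map H.hom).obj ((Over.map (H.left.fromSpecResidueField h)).obj (𝟙_ _))
  let xh : P ⟶ H := Over.homMk (H.left.fromSpecResidueField h) (by simp [P])
  haveI : IsReduced P.left := inferInstanceAs (IsReduced (Spec (H.left.residueField h)))
  have hhj : H.hom.base h ∈ Set.range j.base := by
    refine ⟨(pullback.snd X.hom j).base p, ?_⟩
    rw [hh, ← Scheme.Hom.comp_apply x.left, Over.w x, hq, inc_left, ← Scheme.Hom.comp_apply,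
      ← Scheme.Hom.comp_apply, pullback.condition]
    rfl
  haveI : Surjective (inc j P).left := by
    refine surjective_inc_of_range j ?_
    rintro _ ⟨z, rfl⟩
    show ((𝟙 _ ≫ H.left.fromSpecResidueField h) ≫ H.hom).base z ∈ Set.range j.base
    rw [Category.id_comp, Scheme.Hom.comp_apply, Scheme.fromSpecResidueField_apply]
    exact hhj
  haveI : IsIso (inc j P).left := isIso_of_isClosedImmersion_of_surjective _
  haveI : IsIso (inc j P) := by
    haveI : IsIso ((Over.forget S).map (inc j P)) := ‹IsIso (inc j P).left›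
    exact isIso_of_reflects_iso _ (Over.forget S)
  let a : P ⟶ G := inv (inc j P) ≫ tau j u₀ xh
  obtain ⟨U, hU, hUet⟩ := exists_nhd_of_point G H.hom n h hn a (fun Y y => by
    set k := (Over.map H.hom).map ((Over.map (H.left.fromSpecResidueField h)).map (toUnit Y))
    haveI : IsIso (inc j P).left := inferInstance
    haveI := isIso_inc_of_hom j k
    haveI : IsIso (inc j ((Over.map H.hom).obj ((Over.map (H.left.fromSpecResidueField h)).obj Y))) := by
      haveI : IsIso ((Over.forget S).map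
          (inc j ((Over.map H.hom).obj ((Over.map (H.left.fromSpecResidueField h)).obj Y)))) :=
        isIso_inc_of_hom j k
      exact isIso_of_reflects_iso _ (Over.forget S)
    rw [← cancel_epi (inc j ((Over.map H.hom).obj ((Over.map (H.left.fromSpecResidueField h)).obj Y))),
      MonObj.comp_mul, MonObj.comp_mul]
    have hk : inc j _ ≫ k ≫ a = tau j u₀ (k ≫ xh) := by
      rw [tau_comp, ← Category.assoc, ← resMap_inc, Category.assoc, IsIso.hom_inv_id_assoc]
    rw [hk]
    exact tau_central j u₀ hc₀ _ _)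
  -- the point over `κ(q)`
  let Q : Over S := Over.mk (X.left.fromSpecResidueField q ≫ X.hom)
  let k : Q ⟶ X := Over.homMk (X.left.fromSpecResidueField q) rfl
  let k' : Q ⟶ P := Over.homMk (Spec.map (x.left.residueFieldMap q)) (by
    show Spec.map (x.left.residueFieldMap q) ≫ (𝟙 _ ≫ H.left.fromSpecResidueField h) ≫ H.hom = _
    rw [Category.id_comp, ← Category.assoc, Scheme.Hom.SpecMap_residueFieldMap_fromSpecResidueField,
      Category.assoc, Over.w x]
    rfl)
  have hkk : k ≫ x = k' ≫ xh := by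
    ext1
    exact (Scheme.Hom.SpecMap_residueFieldMap_fromSpecResidueField x.left q).symm
  haveI : Surjective (inc j Q).left := by
    refine surjective_inc_of_range j ?_
    rintro _ ⟨z, rfl⟩
    show (X.left.fromSpecResidueField q ≫ X.hom).base z ∈ Set.range j.base
    rw [Scheme.Hom.comp_apply, Scheme.fromSpecResidueField_apply, hq, ← Scheme.Hom.comp_apply, inc_left,
      pullback.condition, Scheme.Hom.comp_apply]
    exact ⟨_, rfl⟩
  obtain ⟨r, hr⟩ := (inc j Q).left.surjective (IsLocalRing.closedPoint (X.left.residueField q))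
  have hrp : (resMap j k).left.base r = p := by
    apply (inc j X).left.isClosedEmbedding.injective
    have e := congrArg (fun m => m.base r) (congrArg Over.Hom.left (resMap_inc j k))
    refine Eq.trans e ?_
    show k.left.base ((inc j Q).left.base r) = q
    rw [hr]
    exact Scheme.fromSpecResidueField_apply _ _
  have he : resMap j k ≫ tau j u₀ x = inc j Q ≫ k' ≫ a := by
    rw [← tau_comp, hkk, tau_comp, ← Category.assoc, ← resMap_inc, Category.assoc,
      IsIso.hom_inv_id_assoc]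
  refine ⟨U, ?_, hUet⟩
  have e := congrArg (fun m => m.base r) (congrArg Over.Hom.left he)
  rw [← hrp]
  refine Eq.subst (motive := fun z => z ∈ U) e.symm ?_
  show a.left.base (k'.left.base ((inc j Q).left.base r)) ∈ U
  convert hU using 3
  exact @Subsingleton.elim _ (inferInstanceAs (Subsingleton (PrimeSpectrum (H.left.residueField h)))) _ _

include hc₀ in
theorem uniq_killed [Surjective j] {n : ℕ} {X : Over S} (hX : Inv n X) (x : X ⟶ H) (y y' : X ⟶ G)
    (hy : y ^ n = 1) (hy' : y' ^ n = 1) (h : inc j X ≫ y = tau j u₀ x)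
    (h' : inc j X ≫ y' = tau j u₀ x) : y = y' :=
  eq_of_killed j y y' (h.trans h'.symm) hy hy' (by rw [h]; exact range_tau_subset j u₀ hc₀ n hX x)

include hc₀ in
theorem eq_one_of_killed [Surjective j] {n : ℕ} {X : Over S} (hX : Inv n X) (y : X ⟶ G) (hy : y ^ n = 1)
    (h : inc j X ≫ y = 1) : y = 1 :=
  uniq_killed j u₀ hc₀ hX (1 : X ⟶ H) y 1 hy (one_pow n) (by rw [h, tau_one])
    (by rw [MonObj.comp_one, tau_one])

/-- The existence, uniqueness and centrality of the lift. -/
theorem exists_lift_hom [Surjective j] [IsFinite H.hom] (hH : SGA3x.IsMultTypeFT H)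
    (hc₀ : ∀ (X₀ : Over S₀) (x : X₀ ⟶ Red.bc j H) (g : X₀ ⟶ Red.bc j G), (x ≫ u₀) * g = g * (x ≫ u₀)) :
    ∃ u : H ⟶ G, IsMonHom u ∧ (Over.pullback j).map u = u₀ ∧
      (∀ (X : Over S) (x : X ⟶ H) (g : X ⟶ G), (x ≫ u) * g = g * (x ≫ u)) ∧
      ∀ u' : H ⟶ G, IsMonHom u' → (Over.pullback j).map u' = u₀ → u' = u := by
  choose W m hsW hm hkill using fun s : S => exists_killing H hH s
  have hInv : ∀ (s : S) (X : Over S), Set.range X.hom.base ⊆ (W s : Set S) → Inv (m s) X :=
    fun s X hX q => hm s _ (hX ⟨q, rfl⟩)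
  let HS : S → Over S := fun s => Over.mk ((H.hom ⁻¹ᵁ W s).ι ≫ H.hom)
  let ιS : (s : S) → (HS s ⟶ H) := fun s => Over.homMk (H.hom ⁻¹ᵁ W s).ι rfl
  have hHS : ∀ s, Set.range (HS s).hom.base ⊆ (W s : Set S) := by
    rintro s _ ⟨z, rfl⟩
    exact z.2
  have hex : ∀ s, ∃ y : HS s ⟶ G, y ^ m s = 1 ∧ inc j (HS s) ≫ y = tau j u₀ (ιS s) := fun s => by
    refine exists_killed_extend j _ ?_ (range_tau_subset j u₀ hc₀ _ (hInv s _ (hHS s)) _)
    rw [← tau_pow, hkill s _ _ (hHS s), tau_one]
  choose y hy hy' using hex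
  have hcomp : ∀ {X : Over S} (s : S) (a : X ⟶ HS s), inc j X ≫ (a ≫ y s) = tau j u₀ (a ≫ ιS s) := by
    intro X s a
    rw [tau_comp, ← hy' s, ← Category.assoc, ← resMap_inc, Category.assoc]
  have hcompat : ∀ {X : Over S} (s t : S) (a : X ⟶ HS s) (b : X ⟶ HS t),
      a ≫ ιS s = b ≫ ιS t → a ≫ y s = b ≫ y t := by
    intro X s t a b hab
    have hXs : Set.range X.hom.base ⊆ (W s : Set S) := by
      rintro _ ⟨z, rfl⟩
      rw [← Over.w a, Scheme.Hom.comp_apply]
      exact hHS s ⟨_, rfl⟩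
    have hXt : Set.range X.hom.base ⊆ (W t : Set S) := by
      rintro _ ⟨z, rfl⟩
      rw [← Over.w b, Scheme.Hom.comp_apply]
      exact hHS t ⟨_, rfl⟩
    have hkb : (b ≫ y t) ^ m t = 1 := by rw [← MonObj.comp_pow, hy, MonObj.comp_one]
    have hka : (a ≫ y s) ^ m s = 1 := by rw [← MonObj.comp_pow, hy, MonObj.comp_one]
    have hkb' : (b ≫ y t) ^ m s = 1 := by
      refine eq_one_of_killed j u₀ hc₀ (hInv t X hXt) _ ?_ ?_
      · rw [← pow_mul, mul_comm, pow_mul, hkb, one_pow]
      · rw [MonObj.comp_pow, hcomp, ← tau_pow, hkill s _ _ hXs, tau_one]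
    exact uniq_killed j u₀ hc₀ (hInv s X hXs) (a ≫ ιS s) _ _ hka hkb' (hcomp s a) (by rw [hcomp, hab])
  have hcover : TopologicalSpace.IsOpenCover (fun s : S => H.hom ⁻¹ᵁ W s) :=
    TopologicalSpace.IsOpenCover.mk (eq_top_iff.mpr fun z _ =>
      TopologicalSpace.Opens.mem_iSup.mpr ⟨H.hom.base z, hsW _⟩)
  let 𝒰 := H.left.openCoverOfIsOpenCover _ hcover
  have hglue : ∀ s t : S, pullback.fst (𝒰.f s) (𝒰.f t) ≫ (y s).left =
      pullback.snd (𝒰.f s) (𝒰.f t) ≫ (y t).left := by
    intro s t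
    let X : Over S := Over.mk (pullback.fst (𝒰.f s) (𝒰.f t) ≫ 𝒰.f s ≫ H.hom)
    let a : X ⟶ HS s := Over.homMk (pullback.fst (𝒰.f s) (𝒰.f t)) rfl
    let b : X ⟶ HS t := Over.homMk (pullback.snd (𝒰.f s) (𝒰.f t)) (by
      show pullback.snd (𝒰.f s) (𝒰.f t) ≫ 𝒰.f t ≫ H.hom = _
      rw [← Category.assoc, ← pullback.condition, Category.assoc]
      rfl)
    exact congrArg Over.Hom.left (hcompat s t a b (by ext1; exact pullback.condition))
  let u : H ⟶ G := Over.homMk (𝒰.glueMorphisms (fun s => (y s).left) hglue) (by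
    refine 𝒰.hom_ext _ _ fun s => ?_
    rw [← Category.assoc, 𝒰.ι_glueMorphisms]
    exact Over.w (y s))
  have hu : ∀ s, ιS s ≫ u = y s := fun s => by
    ext1
    exact 𝒰.ι_glueMorphisms _ _ s
  -- restriction to the subscheme
  have hinc : ∀ {X : Over S} (x : X ⟶ H), inc j X ≫ x ≫ u = tau j u₀ x := by
    have h0 : inc j H ≫ u = tau j u₀ (𝟙 H) := by
      ext1
      refine Scheme.Cover.hom_ext (𝒰.pullback₁ (inc j H).left) _ _ fun s => ?_
      let Y : Over S := Over.mk (pullback.fst (inc j H).left (𝒰.f s) ≫ (res j H).hom)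
      let a : Y ⟶ res j H := Over.homMk (pullback.fst (inc j H).left (𝒰.f s)) rfl
      let b : Y ⟶ HS s := Over.homMk (pullback.snd (inc j H).left (𝒰.f s)) (by
        show pullback.snd (inc j H).left (𝒰.f s) ≫ 𝒰.f s ≫ H.hom = _
        rw [← Category.assoc, ← pullback.condition, Category.assoc, Over.w]
        rfl)
      have hab : b ≫ ιS s = a ≫ inc j H := by ext1; exact pullback.condition.symm
      let c : Y ⟶ res j (HS s) := Over.homMk (pullback.lift b.left (a.left ≫ pullback.snd H.hom j) (by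
          rw [Over.w b, Category.assoc]
          rfl)) (by
        show pullback.lift b.left _ _ ≫ pullback.snd (HS s).hom j ≫ j = _
        rw [← Category.assoc, pullback.lift_snd, Category.assoc]
        rfl)
      have hc1 : c ≫ inc j (HS s) = b := by
        ext1
        rw [Over.comp_left, inc_left]
        exact pullback.lift_fst _ _ _
      have hc2 : c ≫ resMap j (ιS s) = a := by
        ext1
        apply pullback.hom_ext
        · have := congrArg Over.Hom.left hab
          rw [Over.comp_left, Over.comp_left, inc_left] at this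
          refine (Category.assoc _ _ _).trans ?_
          show pullback.lift b.left _ _ ≫ ((Over.pullback j).map (ιS s)).left ≫ pullback.fst H.hom j = _
          rw [show ((Over.pullback j).map (ιS s)).left ≫ pullback.fst H.hom j =
            pullback.fst (HS s).hom j ≫ (ιS s).left from pullback.lift_fst _ _ _,
            pullback.lift_fst_assoc]
          exact this
        · refine (Category.assoc _ _ _).trans ?_
          show pullback.lift b.left _ _ ≫ ((Over.pullback j).map (ιS s)).left ≫ pullback.snd H.hom j = _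
          rw [show ((Over.pullback j).map (ιS s)).left ≫ pullback.snd H.hom j =
            pullback.snd (HS s).hom j from pullback.lift_snd _ _ _, pullback.lift_snd]
      have : a ≫ inc j H ≫ u = a ≫ tau j u₀ (𝟙 H) := by
        rw [← Category.assoc, ← hab, Category.assoc, hu]
        rw [← hc1, Category.assoc, hy', ← Category.comp_id (ιS s), tau_comp, ← Category.assoc, hc2]
      exact congrArg Over.Hom.left this
    intro X x
    rw [← Category.assoc, ← resMap_inc, Category.assoc, h0, ← tau_comp, Category.comp_id]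
  have hkillu : ∀ (s : S) (X : Over S) (x : X ⟶ H), Set.range X.hom.base ⊆ (W s : Set S) →
      (x ≫ u) ^ m s = 1 := by
    intro s X x hX
    have hr : Set.range x.left.base ⊆ Set.range (ιS s).left.base := by
      rintro _ ⟨z, rfl⟩
      show _ ∈ Set.range (H.hom ⁻¹ᵁ W s).ι.base
      rw [Scheme.Opens.range_ι]
      show H.hom.base (x.left.base z) ∈ W s
      rw [← Scheme.Hom.comp_apply, Over.w x]
      exact hX ⟨z, rfl⟩
    haveI : IsOpenImmersion (ιS s).left := inferInstanceAs (IsOpenImmersion (H.hom ⁻¹ᵁ W s).ι)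
    let a : X ⟶ HS s := Over.homMk (IsOpenImmersion.lift (ιS s).left x.left hr) (by
      show IsOpenImmersion.lift (ιS s).left x.left hr ≫ (ιS s).left ≫ H.hom = _
      rw [IsOpenImmersion.lift_fac_assoc, Over.w])
    have ha : a ≫ ιS s = x := by ext1; exact IsOpenImmersion.lift_fac _ _ _
    rw [← ha, Category.assoc, hu, ← MonObj.comp_pow, hy, MonObj.comp_one]
  -- checking equalities on the pieces
  have hlocal : ∀ (X : Over S) (g g' : X ⟶ G),
      (∀ (s : S) (Y : Over S) (k : Y ⟶ X), Set.range Y.hom.base ⊆ (W s : Set S) → k ≫ g = k ≫ g') →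
        g = g' := by
    intro X g g' hloc
    ext1
    have hcX : TopologicalSpace.IsOpenCover (fun s : S => X.hom ⁻¹ᵁ W s) :=
      TopologicalSpace.IsOpenCover.mk (eq_top_iff.mpr fun z _ =>
        TopologicalSpace.Opens.mem_iSup.mpr ⟨X.hom.base z, hsW _⟩)
    refine Scheme.Cover.hom_ext (X.left.openCoverOfIsOpenCover _ hcX) _ _ fun s => ?_
    exact congrArg Over.Hom.left (hloc s (Over.mk ((X.hom ⁻¹ᵁ W s).ι ≫ X.hom))
      (Over.homMk (X.hom ⁻¹ᵁ W s).ι rfl) (by rintro _ ⟨z, rfl⟩; exact z.2))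
  have hcentral : ∀ (X : Over S) (x : X ⟶ H) (g : X ⟶ G), (x ≫ u) * g = g * (x ≫ u) := by
    intro X x g
    refine hlocal X _ _ fun s Y k hY => ?_
    rw [MonObj.comp_mul, MonObj.comp_mul, ← Category.assoc]
    set x' := k ≫ x
    set g' := k ≫ g
    have h1 : g' * (x' ≫ u) * g'⁻¹ = x' ≫ u := by
      refine uniq_killed j u₀ hc₀ (hInv s Y hY) x' _ _ ?_ (hkillu s Y x' hY) ?_ (hinc x')
      · rw [conj_pow, hkillu s Y x' hY, _root_.mul_one, mul_inv_cancel]
      · rw [MonObj.comp_mul, MonObj.comp_mul, hinc, GrpObj.comp_inv,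
          ← tau_central j u₀ hc₀ x' (inc j Y ≫ g'), mul_assoc, mul_inv_cancel, _root_.mul_one]
    rw [mul_inv_eq_iff_eq_mul] at h1
    exact h1.symm
  have hmul : ∀ (X : Over S) (x x' : X ⟶ H), (x * x') ≫ u = (x ≫ u) * (x' ≫ u) := by
    intro X x x'
    refine hlocal X _ _ fun s Y k hY => ?_
    rw [← Category.assoc, MonObj.comp_mul, MonObj.comp_mul, ← Category.assoc, ← Category.assoc]
    refine uniq_killed j u₀ hc₀ (hInv s Y hY) (k ≫ x * k ≫ x') _ _ (hkillu s Y _ hY) ?_ (hinc _) ?_
    · rw [Commute.mul_pow (hcentral Y _ _), hkillu s Y _ hY, hkillu s Y _ hY, _root_.mul_one]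
    · rw [MonObj.comp_mul, hinc, hinc, tau_mul]
  refine ⟨u, ⟨?_, ?_⟩, ?_, hcentral, ?_⟩
  · have h1 := hmul (𝟙_ _) 1 1
    rw [_root_.one_mul] at h1
    have h2 : (1 : 𝟙_ (Over S) ⟶ H) ≫ u = 1 := left_eq_mul.mp h1
    rw [MonObj.one_eq_one, MonObj.one_eq_one]
    exact h2
  · rw [MonObj.mul_eq_mul, hmul, MonObj.mul_eq_mul, MonObj.comp_mul, tensorHom_fst, tensorHom_snd]
  · have h1 := (tau_eq_iff j u₀ (𝟙 H) u).mp (by rw [← hinc (𝟙 H), Category.id_comp])
    rw [h1, CategoryTheory.Functor.map_id, Category.id_comp]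
  · intro u' hu' hres
    refine hlocal H u' u fun s Y k hY => ?_
    have hinc' : inc j Y ≫ k ≫ u' = tau j u₀ k := by
      rw [tau_eq_iff, Functor.map_comp, hres]
    refine uniq_killed j u₀ hc₀ (hInv s Y hY) k _ _ ?_ (hkillu s Y k hY) hinc' (hinc k)
    rw [← MonObj.pow_comp, hkill s Y k hY, MonObj.one_comp]

end PowEtCentralLib
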