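import Mathlib
import Groth.Agent.PowEtCentralLib.Lift
import Groth.Agent.PowEtCentralLib.Split
import Groth.Agent.MultEqLib.Props

/-!
# Lifting central finite étale subgroups of multiplicative type
-/

set_option autoImplicit false
set_option backward.isDefEq.respectTransparency false

noncomputable section

universe u

open CategoryTheory CategoryTheory.Limits AlgebraicGeometry MonoidalCategory CartesianMonoidalCategory
open scoped MonObj Hom

namespace PowEtCentralLib

theorem isFinite_etale_of_reduction {S₀ S : Scheme.{u}} (j : S₀ ⟶ S) [IsClosedImmersion j] [Surjective j]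
    (H : Over S) [Flat H.hom] [LocallyOfFinitePresentation H.hom] [IsAffineHom H.hom]
    [IsFinite (Red.bc j H).hom] [Etale (Red.bc j H).hom] : IsFinite H.hom ∧ Etale H.hom := by
  haveI : Etale (pullback.snd H.hom j) := ‹Etale (Red.bc j H).hom›
  haveI hE : Etale H.hom := etale_of_reduction j H.hom
  refine ⟨IsFinite.iff_isProper_and_isAffineHom.2 ⟨?_, inferInstance⟩, hE⟩
  haveI : UniversallyClosed (pullback.fst H.hom j ≫ H.hom) := by
    rw [pullback.condition]
    haveI : IsFinite (pullback.snd H.hom j) := ‹IsFinite (Red.bc j H).hom›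
    infer_instance
  haveI : UniversallyClosed H.hom := UniversallyClosed.of_comp_surjective (pullback.fst H.hom j) H.hom
  exact {}

theorem central_subgroup_lift {A : Type u} [CommRing A] (J : Ideal A) (hJ : ∀ x ∈ J, IsNilpotent x)
    (G : Over (Spec (CommRingCat.of A))) [GrpObj G] [Flat G.hom] [LocallyOfFinitePresentation G.hom]
    [Surjective (Spec.map (CommRingCat.ofHom (Ideal.Quotient.mk J)))]
    [IsClosedImmersion (Spec.map (CommRingCat.ofHom (Ideal.Quotient.mk J)))]
    (H₀ : Over (Spec (CommRingCat.of (A ⧸ J)))) [GrpObj H₀]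
    (j₀ : H₀ ⟶ Red.bc (Spec.map (CommRingCat.ofHom (Ideal.Quotient.mk J))) G) [IsMonHom j₀] [Mono j₀]
    [Smooth H₀.hom] [IsFinite H₀.hom] (hm₀ : SGA3x.IsMultTypeFT H₀)
    (hc₀ : ∀ (X : Over _) (x : X ⟶ _) (g : X ⟶ Red.bc (Spec.map (CommRingCat.ofHom (Ideal.Quotient.mk J))) G),
      (x ≫ j₀) * g = g * (x ≫ j₀)) :
    ∃ (H : Over (Spec (CommRingCat.of A))) (_ : GrpObj H) (j : H ⟶ G), IsMonHom j ∧ Mono j ∧ SGA3x.IsMultTypeFT H ∧
      (∃ e : Red.bc (Spec.map (CommRingCat.ofHom (Ideal.Quotient.mk J))) H ≅ H₀,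
        e.hom ≫ j₀ = (Over.pullback (Spec.map (CommRingCat.ofHom (Ideal.Quotient.mk J)))).map j) ∧
      (∀ (X : Over _) (x : X ⟶ _) (g : X ⟶ G), (x ≫ j) * g = g * (x ≫ j)) ∧
      ∀ (H' : Over (Spec (CommRingCat.of A))) [GrpObj H'] (j' : H' ⟶ G) [IsMonHom j'] [Mono j'], SGA3x.IsMultTypeFT H' →
        (∃ e' : Red.bc (Spec.map (CommRingCat.ofHom (Ideal.Quotient.mk J))) H' ≅ H₀,
          e'.hom ≫ j₀ = (Over.pullback (Spec.map (CommRingCat.ofHom (Ideal.Quotient.mk J)))).map j') →
        ∃ φ : H' ≅ H, φ.hom ≫ j = j' := by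
  let i := Spec.map (CommRingCat.ofHom (Ideal.Quotient.mk J))
  haveI : Etale H₀.hom := etale_of_isFinite_smooth H₀.hom
  obtain ⟨H, hf, he, ⟨e⟩⟩ := exists_scheme_lift J hJ H₀
  haveI := hf
  haveI := he
  obtain ⟨hgrp, hme⟩ := exists_grpObj i H H₀ e
  letI := hgrp
  haveI := hme
  haveI : IsMonHom e.inv := inferInstance
  have hm : SGA3x.IsMultTypeFT (Red.bc i H) := by
    obtain ⟨S', f, hflat, hsurj, hcov, hloc⟩ := id hm₀
    refine ⟨S', f, hflat, hsurj, hcov, fun s' => ?_⟩
    obtain ⟨U, hU, M, inst, hM, ⟨g⟩⟩ := hloc s'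
    haveI : IsMonHom ((Over.pullback (U.ι ≫ f)).mapIso e).hom :=
      @Functor.map.instIsMonHom _ _ _ _ _ _ (Over.pullback (U.ι ≫ f)) _ _ _ _ _ e.hom _
    haveI : IsMonHom g.hom.hom.hom := inferInstance
    let gi : Red.bc (U.ι ≫ f) H₀ ≅ Red.DS (U : Scheme.{u}) M :=
      ⟨g.hom.hom.hom, g.inv.hom.hom, ((Grp.forget _).mapIso g).hom_inv_id, ((Grp.forget _).mapIso g).inv_hom_id⟩
    let k : Red.bc (U.ι ≫ f) (Red.bc i H) ≅ Red.DS (U : Scheme.{u}) M :=
      (Over.pullback (U.ι ≫ f)).mapIso e ≪≫ gi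
    haveI : IsMonHom gi.hom := inferInstanceAs (IsMonHom g.hom.hom.hom)
    haveI : IsMonHom k.hom := by
      dsimp only [k, Iso.trans_hom]
      infer_instance
    exact ⟨U, hU, M, inst, hM, ⟨Grp.mkIso k (IsMonHom.one_hom k.hom) (IsMonHom.mul_hom k.hom)⟩⟩
  haveI : Smooth H.hom := inferInstance
  haveI : IsMonHom (e.hom ≫ j₀) := inferInstance
  obtain ⟨u, hu, hres, hcent, huniq⟩ := exists_lift_hom i (e.hom ≫ j₀) (isMultTypeFT_of_reduction J hJ H hm)
    (fun X x g => by rw [← Category.assoc]; exact hc₀ X (x ≫ e.hom) g)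
  haveI := hu
  refine ⟨H, hgrp, u, hu, ⟨fun {X} x x' h => ?_⟩, isMultTypeFT_of_reduction J hJ H hm, ⟨e, hres.symm⟩, hcent, ?_⟩
  · apply (map_bijective i X H).1
    show (Over.pullback i).map x = (Over.pullback i).map x'
    have h0 := congrArg (Over.pullback i).map h
    rw [Functor.map_comp, Functor.map_comp, hres, ← Category.assoc, ← Category.assoc, cancel_mono,
      cancel_mono] at h0
    exact h0
  · intro H' _ j' _ _ hH' ⟨e', he'⟩
    haveI hf' : Flat H'.hom := Groth.Agent.EqNhd.flat_of_isMultTypeFT hH'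
    haveI : IsAffineHom H'.hom := Groth.Agent.MultEq.isAffineHom_of_isMultTypeFT hH'
    haveI : LocallyOfFinitePresentation H'.hom := Groth.Agent.MultEq.lfp_of_isMultTypeFT hH'
    haveI : IsFinite (Red.bc i H').hom := by
      rw [← Over.w e'.hom]
      haveI : IsIso e'.hom.left := inferInstanceAs (IsIso ((Over.forget _).map e'.hom))
      infer_instance
    haveI : Etale (Red.bc i H').hom := by
      rw [← Over.w e'.hom]
      haveI : IsIso e'.hom.left := inferInstanceAs (IsIso ((Over.forget _).map e'.hom))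
      infer_instance
    obtain ⟨hfin', het'⟩ := isFinite_etale_of_reduction i H'
    haveI := hfin'
    haveI := het'
    haveI : IsMonHom e'.hom := by
      haveI : IsMonHom (e'.hom ≫ j₀) := by
        rw [he']
        exact @Functor.map.instIsMonHom _ _ _ _ _ _ (Over.pullback i) _ _ _ _ _ j' _
      refine ⟨?_, ?_⟩
      · rw [← cancel_mono j₀, Category.assoc, IsMonHom.one_hom j₀]
        exact IsMonHom.one_hom (e'.hom ≫ j₀)
      · rw [← cancel_mono j₀, Category.assoc, Category.assoc, IsMonHom.mul_hom j₀,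
          tensorHom_comp_tensorHom_assoc]
        exact IsMonHom.mul_hom (e'.hom ≫ j₀)
    obtain ⟨a, ha, hga⟩ := existsUnique_hom i H' H (e'.hom ≫ e.inv)
    obtain ⟨b, hb, hgb⟩ := existsUnique_hom i H H' (e.hom ≫ e'.inv)
    have h1 : a ≫ b = 𝟙 H' := (map_bijective i H' H').1 (by
      show (Over.pullback i).map (a ≫ b) = (Over.pullback i).map (𝟙 H')
      rw [Functor.map_comp, hga, hgb, CategoryTheory.Functor.map_id]
      simp)
    have h2 : b ≫ a = 𝟙 H := (map_bijective i H H).1 (by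
      show (Over.pullback i).map (b ≫ a) = (Over.pullback i).map (𝟙 H)
      rw [Functor.map_comp, hga, hgb, CategoryTheory.Functor.map_id]
      simp)
    haveI := ha
    refine ⟨⟨a, b, h1, h2⟩, ?_⟩
    haveI : Smooth H'.hom := inferInstance
    obtain ⟨u', -, -, -, huniq'⟩ := exists_lift_hom i ((Over.pullback i).map (a ≫ u)) hH'
      (fun X x g => by
        rw [Functor.map_comp, hga, hres, Category.assoc, Iso.inv_hom_id_assoc, ← Category.assoc]
        exact hc₀ X (x ≫ e'.hom) g)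
    rw [huniq' (a ≫ u) inferInstance rfl]
    refine (huniq' j' inferInstance ?_).symm
    rw [Functor.map_comp, hga, hres, Category.assoc, Iso.inv_hom_id_assoc, he']

end PowEtCentralLib
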