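import Mathlib
import Groth.Agent.PowEtCentralLib.Lift
import Groth.Agent.HomLiftCpl.Semilocal
import Groth.Agent.S5295
import Groth.Agent.S12442

/-!
# Lifting central homomorphisms over a complete local ring
-/

set_option autoImplicit false
set_option backward.isDefEq.respectTransparency false

noncomputable section

universe u

open CategoryTheory CategoryTheory.Limits AlgebraicGeometry MonoidalCategory CartesianMonoidalCategory
open scoped MonObj Hom

namespace PowEtCentralLib

variable {S : Scheme.{u}} {G : Over S} [GrpObj G] {n : ℕ}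

/-- Killed points agree along surjective maps. -/
theorem eq_of_killed_surjective {X₀ X : Over S} (i : X₀ ⟶ X) [Surjective i.left] (y y' : X ⟶ G)
    (h : i ≫ y = i ≫ y') (hy : y ^ n = 1) (hy' : y' ^ n = 1)
    (hr : Set.range (i ≫ y).left.base ⊆ (etLocus G n : Set G.left)) : y = y' := by
  have key : ∀ z : X ⟶ G, i ≫ z = i ≫ y → Set.range z.left.base ⊆ (etLocus G n : Set G.left) := by
    rintro z hz _ ⟨q, rfl⟩
    obtain ⟨p, rfl⟩ := i.left.surjective q
    refine hr ⟨p, ?_⟩
    rw [← hz]
    rfl
  obtain ⟨l, hl, hl'⟩ := exists_torsion_lift y hy (key y rfl)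
  obtain ⟨m, hm, hm'⟩ := exists_torsion_lift y' hy' (key y' h.symm)
  have hlm : l = m := by
    refine eq_of_surjective_comp i.left (torsionπ G n) l m (hl.trans hm.symm) ?_
    apply pullback.hom_ext
    · rw [← cancel_mono (etLocus G n).ι]
      simp only [Category.assoc]
      rw [hl', hm']
      exact congrArg Over.Hom.left h
    · rw [Category.assoc, Category.assoc]
      exact congrArg (i.left ≫ ·) (hl.trans hm.symm)
  ext1
  rw [← hl', hlm, hm']

variable {A : Type u} [CommRing A] [IsLocalRing A] [IsNoetherianRing A]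
  [IsAdicComplete (IsLocalRing.maximalIdeal A) A]

/-- The closed subscheme `Spec (A ⧸ 𝔪 ^ k)`. -/
abbrev level (A : Type u) [CommRing A] [IsLocalRing A] (k : ℕ) :
    Spec (CommRingCat.of (A ⧸ IsLocalRing.maximalIdeal A ^ k)) ⟶ Spec (CommRingCat.of A) :=
  Spec.map (CommRingCat.ofHom (Ideal.Quotient.mk (IsLocalRing.maximalIdeal A ^ k)))

/-- Morphisms out of a finite scheme over a complete local ring. -/
theorem finite_ext_and_exists (X : Over (Spec (CommRingCat.of A))) [IsFinite X.hom] (Z : Scheme.{u}) :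
    (∀ f g : X.left ⟶ Z, (∀ k, pullback.fst X.hom (level A k) ≫ f = pullback.fst X.hom (level A k) ≫ g) → f = g) ∧
    (∀ u : (k : ℕ) → (pullback X.hom (level A k) ⟶ Z),
      (∀ k : ℕ, pullback.map X.hom (level A k) X.hom (level A (k + 1)) (𝟙 _)
        (Spec.map (CommRingCat.ofHom (Ideal.Quotient.factor
          (Ideal.pow_le_pow_right (I := IsLocalRing.maximalIdeal A) (Nat.le_succ k))))) (𝟙 _) (by simp)
        (by simp only [level, Category.comp_id]; rw [← Spec.map_comp]; rfl) ≫ u (k + 1) = u k) →
      ∃ f : X.left ⟶ Z, ∀ k : ℕ, pullback.fst X.hom (level A k) ≫ f = u k) := by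
  haveI : IsAffine X.left := isAffine_of_isAffineHom X.hom
  let B : Type u := Γ(X.left, ⊤)
  obtain ⟨φ, hφ⟩ := Spec.map_surjective (X.left.isoSpec.inv ≫ X.hom)
  algebraize [φ.hom]
  haveI hf : IsFinite (Spec.map φ) := by rw [hφ]; infer_instance
  haveI : Module.Finite A B := RingHom.finite_algebraMap.mp ((IsFinite.SpecMap_iff φ).mp hf)
  set m := IsLocalRing.maximalIdeal A with hm
  set I := Ideal.map (algebraMap A B) m with hI
  haveI : IsAdicComplete m B := HomLiftCpl.isAdicComplete_of_finite m
  haveI : IsAdicComplete I B := (IsAdicComplete.map_algebraMap_iff (I := m) (S := B) (M := B)).mpr inferInstance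
  haveI : IsArtinianRing (B ⧸ I) := by
    haveI : m.IsMaximal := IsLocalRing.maximalIdeal.isMaximal A
    haveI : IsArtinianRing (A ⧸ m) := by
      letI := Ideal.Quotient.field m
      infer_instance
    letI : Algebra (A ⧸ m) (B ⧸ I) :=
      (Ideal.quotientMap I (algebraMap A B) Ideal.le_comap_map).toAlgebra
    haveI : IsScalarTower A (A ⧸ m) (B ⧸ I) := IsScalarTower.of_algebraMap_eq fun _ => rfl
    haveI : Module.Finite (A ⧸ m) (B ⧸ I) := Module.Finite.of_restrictScalars_finite A _ _
    exact IsArtinianRing.of_finite (A ⧸ m) (B ⧸ I)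
  obtain ⟨hext, hex⟩ := HomLiftCpl.ext_and_exists I Z
  -- `Spec (B ⧸ I ^ k)` maps isomorphically to the `k`-th level
  have hle : ∀ k, m ^ k ≤ (I ^ k).comap (algebraMap A B) := fun k => by
    rw [hI, ← Ideal.map_pow]
    exact Ideal.le_comap_map
  let q : (k : ℕ) → (Spec (CommRingCat.of (B ⧸ I ^ k)) ⟶ Spec (CommRingCat.of (A ⧸ m ^ k))) :=
    fun k => Spec.map (CommRingCat.ofHom (Ideal.quotientMap (I ^ k) (algebraMap A B) (hle k)))
  have hw : ∀ k, (HomLiftCpl.cl (I ^ k) ≫ X.left.isoSpec.inv) ≫ X.hom = q k ≫ level A k := fun k => by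
    rw [Category.assoc, ← hφ, ← Spec.map_comp, ← Spec.map_comp]
    rfl
  let L : (k : ℕ) → (Spec (CommRingCat.of (B ⧸ I ^ k)) ⟶ pullback X.hom (level A k)) :=
    fun k => pullback.lift _ (q k) (hw k)
  have hL : ∀ k, IsIso (L k) := by
    intro k
    haveI : IsClosedImmersion (L k) := by
      haveI : IsClosedImmersion (L k ≫ pullback.fst X.hom (level A k)) := by
        rw [pullback.lift_fst]
        haveI : IsClosedImmersion (HomLiftCpl.cl (I ^ k)) :=
          IsClosedImmersion.spec_of_surjective _ Ideal.Quotient.mk_surjective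
        infer_instance
      haveI : IsClosedImmersion (pullback.fst X.hom (level A k)) := by
        haveI : IsClosedImmersion (level A k) :=
          IsClosedImmersion.spec_of_surjective _ Ideal.Quotient.mk_surjective
        infer_instance
      exact IsClosedImmersion.of_comp (L k) (pullback.fst X.hom (level A k))
    -- a section of the closed immersion
    let P := pullback X.hom (level A k)
    obtain ⟨ψ, hψ⟩ : ∃ ψ : P ⟶ Spec (CommRingCat.of B), ψ = pullback.fst X.hom (level A k) ≫ X.left.isoSpec.hom :=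
      ⟨_, rfl⟩
    haveI : IsAffine P := by
      haveI : IsClosedImmersion (level A k) :=
        IsClosedImmersion.spec_of_surjective _ Ideal.Quotient.mk_surjective
      exact isAffine_of_isAffineHom (pullback.fst X.hom (level A k))
    obtain ⟨χ, hχ⟩ := Spec.map_surjective (P.isoSpec.inv ≫ ψ)
    obtain ⟨ρ, hρ⟩ := Spec.map_surjective (P.isoSpec.inv ≫ pullback.snd X.hom (level A k))
    have hcomm : φ ≫ χ = CommRingCat.ofHom (Ideal.Quotient.mk (m ^ k)) ≫ ρ := by
      apply Spec.map_injective
      rw [Spec.map_comp, Spec.map_comp, hχ, hρ, hψ, hφ, Category.assoc, Category.assoc, Iso.hom_inv_id_assoc,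
        pullback.condition, Category.assoc]
    have hker : I ^ k ≤ RingHom.ker χ.hom := by
      rw [hI, ← Ideal.map_pow, Ideal.map_le_iff_le_comap]
      intro x hx
      show χ.hom (φ.hom x) = 0
      have h1 := congrArg (fun r => r.hom x) hcomm
      refine h1.trans ?_
      show ρ.hom (Ideal.Quotient.mk (m ^ k) x) = 0
      rw [Ideal.Quotient.eq_zero_iff_mem.mpr hx, map_zero]
    let σ : P ⟶ Spec (CommRingCat.of (B ⧸ I ^ k)) :=
      P.isoSpec.hom ≫ Spec.map (CommRingCat.ofHom (Ideal.Quotient.lift (I ^ k) χ.hom hker))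
    have hσ : σ ≫ HomLiftCpl.cl (I ^ k) = ψ := by
      rw [Category.assoc, ← Spec.map_comp]
      have : CommRingCat.ofHom (Ideal.Quotient.mk (I ^ k)) ≫
          CommRingCat.ofHom (Ideal.Quotient.lift (I ^ k) χ.hom hker) = χ := by ext; rfl
      rw [this, hχ, Iso.hom_inv_id_assoc]
    have h1 : σ ≫ L k = 𝟙 P := by
      haveI : IsClosedImmersion (level A k) :=
        IsClosedImmersion.spec_of_surjective _ Ideal.Quotient.mk_surjective
      rw [← cancel_mono (pullback.fst X.hom (level A k)), Category.assoc, pullback.lift_fst,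
        ← Category.assoc, hσ, hψ, Category.id_comp, Category.assoc, Iso.hom_inv_id, Category.comp_id]
    haveI : Mono (L k) := inferInstance
    exact ⟨σ, by rw [← cancel_mono (L k), Category.assoc, h1, Category.comp_id, Category.id_comp], h1⟩
  refine ⟨fun f g h => ?_, fun u hu => ?_⟩
  · rw [← cancel_epi X.left.isoSpec.inv]
    refine hext _ _ fun k => ?_
    rw [← Category.assoc, ← Category.assoc]
    rw [← show L k ≫ pullback.fst X.hom (level A k) = HomLiftCpl.cl (I ^ k) ≫ X.left.isoSpec.inv from
      pullback.lift_fst _ _ _, Category.assoc, Category.assoc, h k]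
  · obtain ⟨f, hf⟩ := hex (fun k => L k ≫ u k) (fun k => by
      rw [← hu k, ← Category.assoc, ← Category.assoc]
      congr 1
      apply pullback.hom_ext
      · simp only [L, Category.assoc, pullback.lift_fst, Category.comp_id]
        rw [← Category.assoc, ← Spec.map_comp]
        rfl
      · simp only [L, Category.assoc, pullback.lift_snd, pullback.lift_snd_assoc]
        rw [← Spec.map_comp, ← Spec.map_comp]
        congr 1
        ext x
        rfl)
    refine ⟨X.left.isoSpec.hom ≫ f, fun k => ?_⟩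
    haveI := hL k
    rw [← cancel_epi (L k), ← Category.assoc, pullback.lift_fst, Category.assoc, Iso.inv_hom_id_assoc]
    exact hf k

variable (G : Over (Spec (CommRingCat.of A))) [GrpObj G] [Flat G.hom] [LocallyOfFinitePresentation G.hom]

/-- Existence and uniqueness of lifts over a complete local ring. -/
theorem exists_lift_complete (M : Over (Spec (CommRingCat.of A))) [GrpObj M] [IsFinite M.hom] [Smooth M.hom]
    (hM : SGA3x.IsMultTypeFT M)
    (u₀ : Red.bc (Spec.map (CommRingCat.ofHom (Ideal.Quotient.mk (IsLocalRing.maximalIdeal A)))) M ⟶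
      Red.bc (Spec.map (CommRingCat.ofHom (Ideal.Quotient.mk (IsLocalRing.maximalIdeal A)))) G) [IsMonHom u₀]
    (hc₀ : ∀ (X : Over _) (x : X ⟶ Red.bc (Spec.map (CommRingCat.ofHom (Ideal.Quotient.mk (IsLocalRing.maximalIdeal A)))) M)
      (g : X ⟶ Red.bc (Spec.map (CommRingCat.ofHom (Ideal.Quotient.mk (IsLocalRing.maximalIdeal A)))) G),
      (x ≫ u₀) * g = g * (x ≫ u₀)) :
    ∃ u : M ⟶ G, IsMonHom u ∧
      (Over.pullback (Spec.map (CommRingCat.ofHom (Ideal.Quotient.mk (IsLocalRing.maximalIdeal A))))).map u = u₀ ∧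
      ∀ u' : M ⟶ G, IsMonHom u' →
        (Over.pullback (Spec.map (CommRingCat.ofHom (Ideal.Quotient.mk (IsLocalRing.maximalIdeal A))))).map u' = u₀ →
          u' = u := by
  let i := Spec.map (CommRingCat.ofHom (Ideal.Quotient.mk (IsLocalRing.maximalIdeal A)))
  haveI : IsClosedImmersion i := IsClosedImmersion.spec_of_surjective _ Ideal.Quotient.mk_surjective
  haveI : Etale M.hom := etale_of_isFinite_smooth M.hom
  obtain ⟨U, n, hsU, hn, hkill⟩ := exists_killing M hM (IsLocalRing.closedPoint A)
  have hU : ∀ q : Spec (CommRingCat.of A), q ∈ U := fun q =>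
    (IsLocalRing.specializes_closedPoint q).mem_open U.isOpen hsU
  have hInv : ∀ X : Over (Spec (CommRingCat.of A)), Inv n X := fun X q => hn _ (hU _)
  have hkill' : ∀ (X : Over (Spec (CommRingCat.of A))) (x : X ⟶ M), x ^ n = 1 := fun X x =>
    hkill X x (fun q _ => hU q)
  let x₀ : res i M ⟶ G := tau i u₀ (𝟙 M)
  have hx₀ : x₀ ^ n = 1 := by rw [← tau_pow, hkill' M, tau_one]
  have hrng : ∀ {X : Over (Spec (CommRingCat.of A))} (x : X ⟶ M),
      Set.range (tau i u₀ x).left.base ⊆ (etLocus G n : Set G.left) := fun {X} x =>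
    range_tau_subset i u₀ hc₀ n (hInv X) x
  -- the levels
  let Xk : ℕ → Over (Spec (CommRingCat.of A)) := fun k => Over.mk (pullback.fst M.hom (level A k) ≫ M.hom)
  let pk : (k : ℕ) → (Xk k ⟶ M) := fun k => Over.homMk (pullback.fst M.hom (level A k)) rfl
  have hkr : ∀ k, Surjective (inc i (Xk k)).left := by
    intro k
    refine ⟨fun z => ?_⟩
    have hz : (Xk k).hom.base z = IsLocalRing.closedPoint A := by
      show (pullback.fst M.hom (level A k) ≫ M.hom).base z = _
      rw [pullback.condition, Scheme.Hom.comp_apply]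
      set w := (pullback.snd M.hom (level A k)).base z
      refine PrimeSpectrum.ext (((IsLocalRing.maximalIdeal.isMaximal A).eq_of_le
        (PrimeSpectrum.isPrime _).ne_top ?_).symm)
      intro x hx
      show Ideal.Quotient.mk (IsLocalRing.maximalIdeal A ^ k) x ∈ (w : PrimeSpectrum _).asIdeal
      refine (w : PrimeSpectrum _).isPrime.mem_of_pow_mem k ?_
      rw [← map_pow, Ideal.Quotient.eq_zero_iff_mem.mpr (Ideal.pow_mem_pow hx k)]
      exact zero_mem _
    obtain ⟨w, hw⟩ : IsLocalRing.closedPoint A ∈ Set.range i.base :=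
      (HomLiftCpl.range_cl (IsLocalRing.maximalIdeal A)).symm ▸ (le_refl (IsLocalRing.maximalIdeal A))
    obtain ⟨p, hp, -⟩ := Scheme.Pullback.exists_preimage_pullback (f := (Xk k).hom) (g := i) z w (hz.trans hw.symm)
    exact ⟨p, by rw [inc_left]; exact hp⟩
  have hexk : ∀ k, ∃ y : Xk k ⟶ G, y ^ n = 1 ∧ inc i (Xk k) ≫ y = tau i u₀ (pk k) := by
    intro k
    haveI := hkr k
    refine exists_killed_extend i _ ?_ (hrng _)
    rw [← tau_pow, hkill', tau_one]
  choose y hy hy' using hexk
  let fk : (k : ℕ) → Spec (CommRingCat.of (A ⧸ IsLocalRing.maximalIdeal A ^ k)) ⟶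
      Spec (CommRingCat.of (A ⧸ IsLocalRing.maximalIdeal A ^ (k + 1))) := fun k =>
    Spec.map (CommRingCat.ofHom (Ideal.Quotient.factor
      (Ideal.pow_le_pow_right (I := IsLocalRing.maximalIdeal A) (Nat.le_succ k))))
  -- uniqueness on each level
  have huk : ∀ (k : ℕ) (Y : Over (Spec (CommRingCat.of A))) (l : Y ⟶ Xk k) (z : Y ⟶ G),
      z ^ n = 1 → inc i Y ≫ z = tau i u₀ (l ≫ pk k) → Surjective (inc i Y).left → z = l ≫ y k := by
    intro k Y l z hz hz' _
    refine eq_of_killed_surjective (inc i Y) z _ ?_ hz (by rw [← MonObj.comp_pow, hy, MonObj.comp_one])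
      (by rw [hz']; exact hrng _)
    rw [hz', ← Category.assoc, ← resMap_inc, Category.assoc, hy', tau_comp]
  obtain ⟨hextM, hexM⟩ := finite_ext_and_exists M G.left
  obtain ⟨g, hg⟩ := hexM (fun k => (y k).left) (fun k => by
    let l : Xk k ⟶ Xk (k + 1) := Over.homMk (pullback.map M.hom (level A k) M.hom (level A (k + 1))
      (𝟙 _) (fk k) (𝟙 _) (by simp) (by
        simp only [fk, level, Category.comp_id]
        rw [← Spec.map_comp]
        rfl)) (by
      show pullback.map M.hom (level A k) M.hom (level A (k + 1)) (𝟙 _) (fk k) (𝟙 _) _ _ ≫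
        pullback.fst M.hom (level A (k + 1)) ≫ M.hom = pullback.fst M.hom (level A k) ≫ M.hom
      simp only [pullback.lift_fst_assoc, Category.comp_id])
    have hl : l ≫ pk (k + 1) = pk k := by
      ext1
      exact (pullback.lift_fst _ _ _).trans (Category.comp_id _)
    haveI := hkr k
    have := huk (k + 1) (Xk k) l (y k) (hy k) (by rw [hl, hy']) inferInstance
    exact (congrArg Over.Hom.left this).symm)
  have hgw : g ≫ G.hom = M.hom := by
    refine (finite_ext_and_exists M (Spec (CommRingCat.of A))).1 _ _ fun k => ?_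
    rw [← Category.assoc, hg, Over.w (y k)]
    rfl
  let u : M ⟶ G := Over.homMk g hgw
  have hu : ∀ k, pk k ≫ u = y k := fun k => by ext1; exact hg k
  have hinc0 : inc i M ≫ u = tau i u₀ (𝟙 M) := by
    -- the closed fibre is the first level
    let e : res i M ⟶ Xk 1 := Over.homMk (pullback.lift (pullback.fst M.hom i)
      (pullback.snd M.hom i ≫ Spec.map (CommRingCat.ofHom (Ideal.Quotient.factor
        (le_of_eq (pow_one (IsLocalRing.maximalIdeal A)))))) (by
          rw [pullback.condition, Category.assoc, ← Spec.map_comp]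
          rfl)) (by
      show pullback.lift _ _ _ ≫ pullback.fst M.hom (level A 1) ≫ M.hom = pullback.snd M.hom i ≫ i
      rw [pullback.lift_fst_assoc, pullback.condition])
    have he : e ≫ pk 1 = inc i M := by
      ext1
      rw [Over.comp_left, inc_left]
      exact pullback.lift_fst _ _ _
    haveI : Surjective (inc i (res i M)).left := surjective_inc_of_range i (by
      rintro _ ⟨z, rfl⟩
      exact ⟨_, rfl⟩)
    have hz : inc i (res i M) ≫ tau i u₀ (𝟙 M) = tau i u₀ (e ≫ pk 1) := by
      rw [he, ← Category.comp_id (inc i M), tau_comp]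
      congr 1
      haveI : Mono i := inferInstance
      ext1
      show (inc i (res i M)).left = ((Over.pullback i).map (inc i M)).left
      apply pullback.hom_ext
      · rw [show ((Over.pullback i).map (inc i M)).left ≫ pullback.fst M.hom i =
          pullback.fst (res i M).hom i ≫ (inc i M).left from pullback.lift_fst _ _ _, inc_left, inc_left]
      · rw [show ((Over.pullback i).map (inc i M)).left ≫ pullback.snd M.hom i =
          pullback.snd (res i M).hom i from pullback.lift_snd _ _ _, inc_left, ← cancel_mono i,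
          Category.assoc]
        exact pullback.condition (f := (res i M).hom) (g := i)
    have := huk 1 (res i M) e (tau i u₀ (𝟙 M)) hx₀ hz inferInstance
    rw [this, ← hu 1, ← Category.assoc, he]
  have hinc : ∀ {X : Over (Spec (CommRingCat.of A))} (x : X ⟶ M), inc i X ≫ x ≫ u = tau i u₀ x := by
    intro X x
    rw [← Category.assoc, ← resMap_inc, Category.assoc, hinc0, ← tau_comp, Category.comp_id]
  have hkillu : ∀ (X : Over (Spec (CommRingCat.of A))) (x : X ⟶ M), (x ≫ u) ^ n = 1 := by
    have h0 : u ^ n = 1 := by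
      ext1
      refine hextM _ _ fun k => ?_
      have h : pk k ≫ (u ^ n) = pk k ≫ 1 := by rw [MonObj.comp_pow, hu, hy, MonObj.comp_one]
      exact congrArg Over.Hom.left h
    intro X x
    rw [← MonObj.comp_pow, h0, MonObj.comp_one]
  -- the product `M ⊗ M`
  haveI : IsFinite (M ⊗ M).hom := inferInstanceAs (IsFinite (pullback.fst M.hom M.hom ≫ M.hom))
  obtain ⟨hextMM, -⟩ := finite_ext_and_exists (M ⊗ M) G.left
  have hlev : ∀ (a b : M ⊗ M ⟶ G), (∀ (Y : Over (Spec (CommRingCat.of A))) (l : Y ⟶ M ⊗ M),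
      Surjective (inc i Y).left → l ≫ a = l ≫ b) → a = b := by
    intro a b h
    ext1
    refine hextMM _ _ fun k => ?_
    let Y : Over (Spec (CommRingCat.of A)) := Over.mk (pullback.fst (M ⊗ M).hom (level A k) ≫ (M ⊗ M).hom)
    let l : Y ⟶ M ⊗ M := Over.homMk (pullback.fst (M ⊗ M).hom (level A k)) rfl
    refine congrArg Over.Hom.left (h Y l (surjective_inc_of_range i ?_))
    rintro _ ⟨z, rfl⟩
    show (pullback.fst (M ⊗ M).hom (level A k) ≫ (M ⊗ M).hom).base z ∈ Set.range i.base
    rw [pullback.condition, Scheme.Hom.comp_apply]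
    set w := (pullback.snd (M ⊗ M).hom (level A k)).base z
    refine (HomLiftCpl.range_cl (IsLocalRing.maximalIdeal A)).symm ▸ fun x hx => ?_
    show Ideal.Quotient.mk (IsLocalRing.maximalIdeal A ^ k) x ∈ (w : PrimeSpectrum _).asIdeal
    refine (w : PrimeSpectrum _).isPrime.mem_of_pow_mem k ?_
    rw [← map_pow, Ideal.Quotient.eq_zero_iff_mem.mpr (Ideal.pow_mem_pow hx k)]
    exact zero_mem _
  have hmul : μ[M] ≫ u = (u ⊗ₘ u) ≫ μ[G] := by
    rw [MonObj.mul_eq_mul, MonObj.mul_eq_mul, MonObj.comp_mul, tensorHom_fst, tensorHom_snd]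
    refine hlev _ _ fun Y l _ => ?_
    rw [MonObj.comp_mul, ← Category.assoc, ← Category.assoc, ← Category.assoc, MonObj.comp_mul]
    set a := l ≫ fst M M
    set b := l ≫ snd M M
    have hcomm : Commute (a ≫ u) (b ≫ u) := by
      have h1 : (b ≫ u) * (a ≫ u) * (b ≫ u)⁻¹ = a ≫ u := by
        refine eq_of_killed_surjective (n := n) (inc i Y) _ _ ?_ ?_ (hkillu Y a) ?_
        · rw [MonObj.comp_mul, MonObj.comp_mul, hinc, hinc, GrpObj.comp_inv, hinc,
            ← tau_central i u₀ hc₀ a (tau i u₀ b), mul_assoc, mul_inv_cancel, _root_.mul_one]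
        · rw [conj_pow, hkillu, _root_.mul_one, mul_inv_cancel]
        · rw [MonObj.comp_mul, MonObj.comp_mul, hinc, hinc, GrpObj.comp_inv, hinc,
            ← tau_central i u₀ hc₀ a (tau i u₀ b), mul_assoc, mul_inv_cancel, _root_.mul_one]
          exact hrng a
      rw [mul_inv_eq_iff_eq_mul] at h1
      exact h1.symm
    refine eq_of_killed_surjective (n := n) (inc i Y) _ _ ?_ (hkillu Y _) ?_ (by rw [hinc]; exact hrng _)
    · rw [hinc, MonObj.comp_mul, hinc, hinc, tau_mul]
    · rw [hcomm.mul_pow, hkillu, hkillu, _root_.mul_one]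
  refine ⟨u, ⟨?_, hmul⟩, ?_, fun u' hu' hres => ?_⟩
  · have h1 : (1 : 𝟙_ (Over (Spec (CommRingCat.of A))) ⟶ M) ≫ u = 1 := by
      have h := congrArg (lift (1 : 𝟙_ (Over (Spec (CommRingCat.of A))) ⟶ M) 1 ≫ ·) hmul
      simp only [← Category.assoc, lift_map, ← Hom.mul_def, _root_.one_mul] at h
      exact left_eq_mul.mp h
    rw [MonObj.one_eq_one, MonObj.one_eq_one]
    exact h1
  · have h1 := (tau_eq_iff i u₀ (𝟙 M) u).mp hinc0
    rw [h1, CategoryTheory.Functor.map_id, Category.id_comp]
  · ext1
    refine hextM _ _ fun k => ?_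
    haveI := hkr k
    have hz : inc i (Xk k) ≫ pk k ≫ u' = tau i u₀ (pk k) := by
      rw [tau_eq_iff, Functor.map_comp, hres]
    have := huk k (Xk k) (𝟙 _) (pk k ≫ u') (by rw [← MonObj.pow_comp, hkill', MonObj.one_comp])
      (by rw [Category.id_comp]; exact hz) inferInstance
    rw [Category.id_comp, ← hu k] at this
    exact congrArg Over.Hom.left this

end PowEtCentralLib
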